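/-
Local characteristic `p` relative to the centre.
-/
import Cfsg.Agent.Lib.Glaub.KInf

set_option autoImplicit false
set_option linter.unusedSectionVars false

namespace Cfsg.Agent.Lib.Flav

open Subgroup Cfsg.Agent.Lib.Core Cfsg.Agent.Lib.Glaub
open scoped commutatorElement

variable {Γ : Type*} [Group Γ] [Finite Γ] {p : ℕ} [hp : Fact p.Prime]

/-- `p'`-elements of `N` centralizing `O_p(N)` centralize `Z`. -/
def CPrel (p : ℕ) (Z N : Subgroup Γ) : Prop :=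
  ∀ g ∈ N, (orderOf g).Coprime p → g ∈ 𝐂(OpOf p N) → g ∈ 𝐂(Z)

theorem CPrel.step {G Z N U : Subgroup Γ} (h : CPrel p Z N) (hNG : N ≤ G) (hU : IsPGroup p U)
    (hUN : U ≤ N) (hC : G ⊓ 𝐂(U) ≤ N) : CPrel p Z (G ⊓ 𝐍(U)) := by
  intro g hg hc hg'
  have h1 : U ≤ OpOf p (G ⊓ 𝐍(U)) :=
    le_OpOf (le_inf (hUN.trans hNG) le_normalizer) inf_le_right hU
  have h2 : g ∈ 𝐂(U) := centralizer_le_centralizer h1 hg'
  have hgN : g ∈ N := hC ⟨hg.1, h2⟩
  refine h g hgN hc (zpowers_le.1 ?_)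
  rw [← le_centralizer_iff]
  refine thompson_A_times_B (OpOf_isPGroup N) hU (not_dvd_card_zpowers hp.out hc)
    (le_normalizer_OpOf (hUN.trans le_normalizer))
    (le_normalizer_OpOf ((zpowers_le.2 hgN).trans le_normalizer))
    (le_centralizer_iff.1 (zpowers_le.2 h2)) ?_
  rw [le_centralizer_iff, zpowers_le]
  refine centralizer_le_centralizer ?_ hg'
  refine le_trans ?_ (OpOf_mono_of_normal (K := G ⊓ 𝐂(U))
    (inf_le_inf_left _ (le_normalizer_of_le_centralizer le_rfl))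
    (le_normalizer_inf (inf_le_left.trans le_normalizer) (le_normalizer_centralizer inf_le_right)))
  exact le_trans (le_inf inf_le_left (inf_le_inf_right _ ((OpOf_le N).trans hNG))) (inf_OpOf_le hC)

theorem CPrel.chain {G Z U P : Subgroup Γ} (hP : IsPGroup p P) (hPG : P ≤ G) (hUP : U ≤ P)
    (h : CPrel p Z (G ⊓ 𝐍(U))) : CPrel p Z (G ⊓ 𝐍(P)) := by
  induction U using subgroup_induction_gt with
  | h U ih =>
  rcases hUP.eq_or_lt with rfl | hlt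
  · exact h
  have h1 := lt_inf_normalizer_of_isPGroup hP hlt
  refine ih _ h1 inf_le_left (h.step inf_le_left (hP.to_le inf_le_left) (inf_le_inf_right _ hPG) ?_)
  exact inf_le_inf_left _ ((centralizer_le_centralizer h1.le).trans
    (le_normalizer_of_le_centralizer le_rfl))

/-- if all `p'`-elements of `D` are central then the `p`-elements lie in `O_p(D)` -/
theorem le_OpOf_of_central {D W : Subgroup Γ}
    (h : ∀ g ∈ D, (orderOf g).Coprime p → g ∈ 𝐂(D)) (hW : IsPGroup p W) (hWD : W ≤ D) :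
    W ≤ OpOf p D := by
  obtain ⟨S, hS⟩ := exists_isSyl p D
  have hK : S ⊔ (D ⊓ 𝐂(D)) ≤ D := sup_le hS.le inf_le_left
  have e : S ⊔ (D ⊓ 𝐂(D)) = D := by
    by_contra hne
    have h1 : (S ⊔ (D ⊓ 𝐂(D))).relIndex D ≠ 1 := fun e =>
      hne (le_antisymm hK (relIndex_eq_one.1 e))
    obtain ⟨q, hq, hd⟩ := Nat.exists_prime_and_dvd h1
    haveI := Fact.mk hq
    by_cases hqp : q = p
    · subst hqp
      exact hS.not_dvd_relIndex le_sup_left hd
    obtain ⟨T, hT⟩ := exists_isSyl q D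
    refine hT.not_dvd_relIndex (le_trans (fun g hg => ?_) le_sup_right) hd
    refine ⟨hT.le hg, h g (hT.le hg) ?_⟩
    obtain ⟨n, hn⟩ := pow_eq_one_of_isPGroup hT.isPGroup hg
    exact Nat.Coprime.coprime_dvd_left (orderOf_dvd_of_pow_eq_one hn)
      (((Nat.coprime_primes hq hp.out).2 hqp).pow_left n)
  have hN : D ≤ 𝐍(S) := by
    rw [← e]
    exact sup_le le_normalizer (inf_le_right.trans ((centralizer_le_centralizer hS.le).trans
      (le_normalizer_of_le_centralizer le_rfl)))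
  rw [← hS.eq_OpOf_of_le_normalizer hN]
  exact le_of_isSyl_of_le_normalizer hS hN hW hWD

theorem eq_one_of_central {G : Subgroup Γ} (hO : OpOf p G = ⊥) {g : Γ} (hg : g ∈ G)
    (hc : g ∈ 𝐂(G)) {n : ℕ} (hn : g ^ p ^ n = 1) : g = 1 := by
  have := le_OpOf (zpowers_le.2 hg) (le_normalizer_of_le_centralizer
    (le_centralizer_iff.1 (zpowers_le.2 hc))) (isPGroup_zpowers hn)
  rw [hO] at this
  exact mem_bot.1 (this (mem_zpowers g))

/-- a fixed point of `R` acting like `c` on one of the commuting conjugates of `K` -/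
theorem exists_norm_elt {G R K : Subgroup Γ} (hA : CoprimeAct R G) (hKG : K ≤ G)
    (hK : ∀ ρ ∈ R, ρ ∈ 𝐍(K) ∨ cj(ρ, K) ≤ 𝐂(K)) {c : Γ} (hc : c ∈ K ⊓ 𝐂(R ⊓ 𝐍(K))) :
    ∃ c' ∈ G ⊓ 𝐂(R), c⁻¹ * c' ∈ 𝐂(K) := by
  classical
  have hK' : ∀ ρ ∈ R, ∀ σ ∈ R, (cj(ρ, K) = cj(σ, K) ∧ ρ * c * ρ⁻¹ = σ * c * σ⁻¹) ∨
      cj(ρ, K) ≤ 𝐂(cj(σ, K)) := by
    intro ρ hρ σ hσ
    have m := mul_mem (inv_mem hσ) hρ
    rcases hK _ m with h | h
    · left
      refine ⟨?_, ?_⟩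
      · conv_rhs => rw [← map_conj_eq_iff.2 h, map_conj_map_conj, mul_inv_cancel_left]
      · have := mem_centralizer_iff.1 hc.2 _ ⟨m, h⟩
        calc ρ * c * ρ⁻¹ = σ * (σ⁻¹ * ρ * c) * ρ⁻¹ := by group
          _ = _ := by rw [this]; group
    · right
      rw [← map_conj_centralizer]
      have := map_mono (f := (MulAut.conj σ).toMonoidHom) h
      rwa [map_conj_map_conj, mul_inv_cancel_left] at this
  have ex : ∀ S : Finset Γ, (∀ ρ ∈ S, ρ ∈ R) → ∃ g ∈ ⨆ ρ ∈ S, cj(ρ, K),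
      ∀ ρ ∈ S, (ρ * c * ρ⁻¹)⁻¹ * g ∈ 𝐂(cj(ρ, K)) := by
    intro S
    induction S using Finset.induction_on with
    | empty => exact fun _ => ⟨1, one_mem _, by simp⟩
    | insert σ S _ ih =>
      intro hS
      obtain ⟨g, hg, h⟩ := ih fun ρ hρ => hS ρ (Finset.mem_insert_of_mem hρ)
      have hσ := hS σ (Finset.mem_insert_self _ _)
      have le : (⨆ ρ ∈ S, cj(ρ, K)) ≤ ⨆ ρ ∈ insert σ S, cj(ρ, K) :=
        biSup_mono fun ρ hρ => Finset.mem_insert_of_mem hρ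
      by_cases he : ∃ ρ ∈ S, cj(ρ, K) = cj(σ, K) ∧ ρ * c * ρ⁻¹ = σ * c * σ⁻¹
      · obtain ⟨ρ, hρ, e1, e2⟩ := he
        refine ⟨g, le hg, fun τ hτ => ?_⟩
        rcases Finset.mem_insert.1 hτ with rfl | hτ
        · rw [← e1, ← e2]; exact h ρ hρ
        · exact h τ hτ
      · have h1 : ∀ ρ ∈ S, cj(ρ, K) ≤ 𝐂(cj(σ, K)) := fun ρ hρ =>
          (hK' ρ (hS ρ (Finset.mem_insert_of_mem hρ)) σ hσ).resolve_left fun e => he ⟨ρ, hρ, e⟩
        have h2 : g ∈ 𝐂(cj(σ, K)) := (iSup₂_le h1 : (⨆ ρ ∈ S, cj(ρ, K)) ≤ _) hg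
        have h3 : σ * c * σ⁻¹ ∈ cj(σ, K) := conj_mem_map_conj.2 hc.1
        refine ⟨σ * c * σ⁻¹ * g, mul_mem (le_iSup₂_of_le (f := fun ρ (_ : ρ ∈ insert σ S) =>
          cj(ρ, K)) σ (Finset.mem_insert_self _ _) le_rfl h3) (le hg), fun τ hτ => ?_⟩
        rcases Finset.mem_insert.1 hτ with rfl | hτ
        · rwa [inv_mul_cancel_left]
        · have h4 : σ * c * σ⁻¹ ∈ 𝐂(cj(τ, K)) := le_centralizer_iff.1 (h1 τ hτ) h3
          rw [mem_centralizer_iff.1 h2 _ h3, ← mul_assoc]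
          exact mul_mem (h τ hτ) h4
  obtain ⟨g, hg, h⟩ := ex (Set.toFinite (R : Set Γ)).toFinset fun ρ hρ =>
    (Set.Finite.mem_toFinset _).1 hρ
  have hgG : g ∈ G := (iSup₂_le fun ρ hρ => map_conj_le_of_le hKG
    (hA.le_norm ((Set.Finite.mem_toFinset _).1 hρ)) : _ ≤ G) hg
  have h' : ∀ ρ ∈ R, (ρ * c * ρ⁻¹)⁻¹ * g ∈ 𝐂(cj(ρ, K)) := fun ρ hρ =>
    h ρ ((Set.Finite.mem_toFinset _).2 hρ)
  let E : Subgroup Γ := G ⊓ ⨅ ρ ∈ R, 𝐂(cj(ρ, K))
  have mE : ∀ a, a ∈ E ↔ a ∈ G ∧ ∀ ρ ∈ R, a ∈ 𝐂(cj(ρ, K)) := fun a => by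
    simp only [E, mem_inf, mem_iInf]
  have cjC : ∀ σ ρ a, a ∈ 𝐂(cj(σ * ρ, K)) → σ⁻¹ * a * σ ∈ 𝐂(cj(ρ, K)) := by
    intro σ ρ a ha
    rwa [← map_conj_map_conj, ← map_conj_centralizer, mem_map_conj] at ha
  have hE : CoprimeAct R E := hA.mono_right inf_le_left fun σ hσ =>
    mem_normalizer_of_conj_mem fun a ha => (mE _).2
      ⟨conj_mem_of_mem_normalizer (hA.le_norm hσ) ((mE a).1 ha).1, fun ρ hρ => by
        have := cjC σ⁻¹ ρ a (((mE a).1 ha).2 _ (mul_mem (inv_mem hσ) hρ))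
        rwa [inv_inv] at this⟩
  obtain ⟨c', hc', n, hn, e⟩ := hE.exists_centralizer_mul (g := g) fun a ha => (mE _).2 ⟨by
      have := mul_mem (conj_mem_of_mem_normalizer' (hA.le_norm ha) (inv_mem hgG)) hgG
      simpa only [mul_assoc] using this, fun ρ hρ => by
      have := mul_mem (inv_mem (cjC a ρ _ (h' _ (mul_mem ha hρ)))) (h' ρ hρ)
      convert this using 1
      group⟩
  have e' : c' = g * n⁻¹ := by rw [e, mul_inv_cancel_right]
  refine ⟨c', mem_inf.2 ⟨e' ▸ mul_mem hgG (inv_mem ((mE n).1 hn).1), hc'⟩, ?_⟩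
  have h1 := mul_mem (h' 1 (one_mem _)) (inv_mem (((mE n).1 hn).2 1 (one_mem _)))
  rw [map_conj_one] at h1
  rw [e']
  simpa only [one_mul, inv_one, mul_one, mul_assoc] using h1

/-- Projection of an invariant `p`-subgroup into one of the commuting conjugates. -/
theorem exists_proj {G R K P : Subgroup Γ} (hA : CoprimeAct R G) (hKG : K ≤ G)
    (hK : ∀ ρ ∈ R, ρ ∈ 𝐍(K) ∨ cj(ρ, K) ≤ 𝐂(K)) (hP : IsPGroup p P) (hRP : R ≤ 𝐍(P))
    (hCP : G ⊓ 𝐂(R) ≤ 𝐍(P)) :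
    ∃ P₁ ≤ K, IsPGroup p P₁ ∧ R ⊓ 𝐍(K) ≤ 𝐍(P₁) ∧ K ⊓ 𝐂(R ⊓ 𝐍(K)) ≤ 𝐍(P₁) ∧
      ∀ a ∈ P, ∀ g ∈ K, ∀ n, g ^ p ^ n = 1 → a⁻¹ * g ∈ 𝐂(K) → g ∈ P₁ := by
  have hNC : 𝐍(K) ≤ 𝐍(𝐂(K)) := normalizer_le_normalizer_centralizer _
  let D : Subgroup Γ := K ⊓ ((P ⊓ 𝐍(K)) ⊔ 𝐂(K))
  have nD : ∀ a ∈ 𝐍(K), a ∈ 𝐍(P) → a ∈ 𝐍(D) := by
    intro a h1 h2
    rw [← zpowers_le] at h1 h2 ⊢
    exact le_normalizer_inf h1 (le_normalizer_sup (le_normalizer_inf h2
      (le_normalizer_normalizer h1)) (h1.trans hNC))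
  refine ⟨OpOf p D, (OpOf_le D).trans inf_le_left, OpOf_isPGroup D,
    le_normalizer_OpOf fun a ha => nD a ha.2 (hRP ha.1), le_normalizer_OpOf fun c hc => ?_,
    fun a ha g hg n hn h => ?_⟩
  · obtain ⟨c', h1, h2⟩ := exists_norm_elt hA hKG hK hc
    have h3 : c⁻¹ * c' ∈ 𝐍(D) := le_normalizer_of_le_centralizer le_rfl
      (centralizer_le_centralizer inf_le_left h2)
    have h4 : c' ∈ 𝐍(K) := by
      have := mul_mem (le_normalizer hc.1) (le_normalizer_of_le_centralizer le_rfl h2)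
      rwa [mul_inv_cancel_left] at this
    have := mul_mem (nD c' h4 (hCP h1)) (inv_mem h3)
    simpa using this
  · have haN : a ∈ 𝐍(K) := by
      have := mul_mem (le_normalizer hg) (inv_mem (le_normalizer_of_le_centralizer le_rfl h))
      simpa using this
    have hgD : g ∈ D := ⟨hg, by
      have := mul_mem (mem_sup_left (S := P ⊓ 𝐍(K)) (T := 𝐂(K)) ⟨ha, haN⟩) (mem_sup_right h)
      rwa [mul_inv_cancel_left] at this⟩
    refine zpowers_le.1 (le_OpOf_of_central (fun d hd hc => ?_) (isPGroup_zpowers hn)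
      (zpowers_le.2 hgD))
    refine centralizer_le_centralizer inf_le_left ?_
    obtain ⟨b, hb, c, hc', rfl⟩ :=
      (mem_sup_of_le_normalizer_right (inf_le_right.trans hNC)).1 hd.2
    have pw : ∀ m : ℕ, (b ^ m)⁻¹ * (b * c) ^ m ∈ 𝐂(K) := by
      intro m
      induction m with
      | zero => simp
      | succ m ih =>
        have := mul_mem (conj_mem_of_mem_normalizer' (hNC hb.2) ih) hc'
        convert this using 1
        rw [pow_succ, pow_succ]; group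
    obtain ⟨m, hm⟩ := pow_eq_one_of_isPGroup hP hb.1
    have h5 := pw (p ^ m)
    rw [hm, inv_one, one_mul] at h5
    obtain ⟨j, hj⟩ := exists_pow_eq_self_of_coprime (x := b * c) (n := p ^ m) (hc.symm.pow_left m)
    rw [← hj]
    exact pow_mem h5 j

end Cfsg.Agent.Lib.Flav
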