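/-
Failure of normality of the K-infinity subgroups, relative to a normal subgroup.
-/
import Cfsg.Agent.Lib.Glaub.KInf

set_option autoImplicit false
set_option linter.unusedSectionVars false
set_option linter.style.haveILetI false

namespace Cfsg.Agent.Lib.Flav

open Subgroup Cfsg.Agent.Lib.Core Cfsg.Agent.Lib.Glaub
open scoped commutatorElement

variable {G : Type*} [Group G] [Finite G] {p : ℕ} [hp : Fact p.Prime] {T : Subgroup G} [T.Normal]

/-- The conclusion of Glauberman's theorem on K-infinity. -/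
def KG (p : ℕ) (T A : Subgroup G) (g : G) : Prop :=
  g ∉ T ∧ iterCommutator A (zpowers g) 3 ≤ A ⊓ 𝐂(A) ∧
    ⁅⁅A ⊓ 𝐂(A), zpowers g⁆, zpowers g⁆ = ⊥ ∧ ((∀ x ∈ normalClosure {g}, (orderOf x).Coprime p → x ∈ 𝐂(T)) ∨
      ∃ U V : Subgroup G, IsChiefFactor U V ∧ U ≤ A ∧ ⁅⁅U, zpowers g⁆, zpowers g⁆ ≤ V ∧
        ¬ ⁅U, zpowers g⁆ ≤ V)

theorem kG_of_chief {A : Subgroup G} (hT : IsPGroup p T) (hA : Crit T A) {g : G} (hg : g ∉ T)
    (h1 : iterCommutator A (zpowers g) 3 ≤ A ⊓ 𝐂(A))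
    (h2 : ⁅⁅A ⊓ 𝐂(A), zpowers g⁆, zpowers g⁆ = ⊥)
    (h3 : ∀ U V, IsChiefFactor U V → U ≤ A → ⁅⁅U, zpowers g⁆, zpowers g⁆ ≤ V) : KG p T A g := by
  refine ⟨hg, h1, h2, or_iff_not_imp_right.2 fun h x hx hc => ?_⟩
  push Not at h
  haveI := hA.normal
  have hD : ∀ U V, IsChiefFactor U V → U ≤ A → ⁅U, normalClosure {g}⁆ ≤ V := by
    intro U V hUV hUP
    haveI := hUV.2.1
    haveI := hUV.2.2.1
    haveI := cFac_normal U V
    rw [← le_cFac_iff]
    exact normalClosure_le_normal (Set.singleton_subset_iff.mpr (mem_cFac_iff.mpr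
      (h U V hUV hUP (h3 U V hUV hUP))))
  have h1 : zpowers x ≤ 𝐂(A) := le_centralizer_of_chief (hT.to_le hA.le)
    (not_dvd_card_zpowers hp.out hc)
    fun U V hUV hUP => (commutator_mono le_rfl (zpowers_le.mpr hx)).trans (hD U V hUV hUP)
  exact hA.le_centralizer hT (not_dvd_card_zpowers hp.out hc) h1 (mem_zpowers x)

theorem kG_of_quadratic {A : Subgroup G} (hT : IsPGroup p T) (hA : Crit T A) {g : G} (hg : g ∉ T)
    (h1 : ⁅⁅A, zpowers g⁆, zpowers g⁆ ≤ A ⊓ 𝐂(A))
    (h2 : ⁅⁅A ⊓ 𝐂(A), zpowers g⁆, zpowers g⁆ = ⊥) : KG p T A g := by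
  haveI := hA.normal
  refine kG_of_chief hT hA hg ((commutator_mono h1 le_rfl).trans (commutator_le_left _ _)) h2
    fun U V hUV hU => ?_
  refine chief_iter_le_of_le (n := 2) (N := A ⊓ 𝐂(A)) hUV
    ((commutator_mono (commutator_mono hU le_rfl) le_rfl).trans h1) fun X Y _ hX => ?_
  exact (commutator_mono (commutator_mono hX le_rfl) le_rfl).trans (h2 ▸ bot_le)

theorem kG_of_quadratic' {A : Subgroup G} (hT : IsPGroup p T) (hA : Crit T A) {g : G}
    (hg : g ∉ T) (h1 : ⁅A, zpowers g⁆ ≤ 𝐂(zpowers g)) : KG p T A g := by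
  have h := commutator_eq_bot_iff_le_centralizer.mpr h1
  exact kG_of_quadratic hT hA hg (h ▸ bot_le)
    (le_bot_iff.mp (h ▸ commutator_mono (commutator_mono inf_le_left le_rfl) le_rfl))

theorem kG_of_loC {A B : Subgroup G} (hT : IsPGroup p T) (hA : Crit T A) (hB : LoC A B)
    (hBT : ¬ B ≤ T) : ∃ g ∈ B, KG p T A g := by
  haveI := hA.normal
  have hAZB : A ≤ 𝐍(B ⊓ 𝐂(B)) := le_normalizer_inf hB.2.1 (le_normalizer_centralizer hB.2.1)
  by_cases hZB : B ⊓ 𝐂(B) ≤ T
  swap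
  · obtain ⟨g, hg, hgT⟩ := SetLike.not_le_iff_exists.mp hZB
    refine ⟨g, hg.1, kG_of_quadratic' hT hA hgT ?_⟩
    exact ((commutator_mono le_rfl (zpowers_le.mpr hg)).trans
      (commutator_le_of_le_normalizer_right hAZB)).trans
      (inf_le_right.trans (centralizer_le_centralizer (zpowers_le.mpr hg.1)))
  have f1 : ∀ A₀ ≤ A, B ≤ 𝐍(A₀) → ⁅A₀, A₀⁆ ≤ 𝐂(B) → ⁅A₀, B⁆ ≤ B ⊓ 𝐂(B) := by
    intro A₀ h1 h2 h3
    have hc : A ⊓ 𝐂(A) ≤ 𝐂(A₀) := inf_le_right.trans (centralizer_le_centralizer h1)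
    rw [commutator_comm]
    refine hB.2.2 A₀ (((commutator_mono (h1.trans hA.le) h1).trans hA.comm).trans hc) h1 h2 ?_ ?_
    · rw [commutator_eq_bot_iff_le_centralizer, le_centralizer_iff]; exact h3
    · rw [commutator_eq_bot_iff_le_centralizer]
      exact ((commutator_mono hZB h1).trans hA.comm).trans hc
  have f2 : ⁅⁅A ⊓ 𝐂(A), B⁆, B⁆ = ⊥ := by
    rw [commutator_eq_bot_iff_le_centralizer]
    refine (f1 _ inf_le_left le_normalizer_of_normal ?_).trans inf_le_right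
    rw [commutator_eq_bot_iff_le_centralizer.mpr (center_le_centralizer_center A)]
    exact bot_le
  have f3 : ⁅⁅A, B⁆, B⁆ ≤ B ⊓ 𝐂(B) :=
    (commutator_mono (commutator_le_of_le_normalizer_right hB.2.1) le_rfl).trans
      (le_inf (commutator_le_self B) hB.1)
  have f4 : ∀ g ∈ B, iterCommutator A (zpowers g) 3 ≤ A ⊓ 𝐂(A) := by
    intro g hg
    refine (iterCommutator_mono le_rfl (zpowers_le.mpr hg) 3).trans ?_
    have : iterCommutator A B 3 = ⊥ :=
      commutator_eq_bot_iff_le_centralizer.mpr (f3.trans inf_le_right)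
    rw [this]; exact bot_le
  have f5 : ∀ g ∈ B, ∀ X ≤ A ⊓ 𝐂(A), ⁅⁅X, zpowers g⁆, zpowers g⁆ = ⊥ := fun g hg X hX =>
    le_bot_iff.mp (f2 ▸ commutator_mono (commutator_mono hX (zpowers_le.mpr hg))
      (zpowers_le.mpr hg))
  have hZp : IsPGroup p (A ⊓ 𝐂(A) : Subgroup G) := (hT.to_le hA.le).to_inf_left
  by_cases hc : ∀ U V, IsChiefFactor U V → U ≤ A ⊓ 𝐂(A) → ⁅U, B⁆ ≤ V
  swap
  · push Not at hc
    obtain ⟨U, V, hUV, hU, h⟩ := hc
    haveI := hUV.2.2.1
    rw [← le_cFac_iff] at h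
    obtain ⟨g, hg, hgc⟩ := SetLike.not_le_iff_exists.mp h
    rw [mem_cFac_iff] at hgc
    refine ⟨g, hg, fun hgT => hgc ?_, f4 g hg, f5 g hg _ le_rfl, Or.inr
      ⟨U, V, hUV, hU.trans inf_le_left, f5 g hg U hU ▸ bot_le, hgc⟩⟩
    exact (commutator_mono le_rfl (zpowers_le.mpr hgT)).trans
      (chief_commutator_le hUV (hZp.to_le hU) hT)
  obtain ⟨g, hg, hgT⟩ := SetLike.not_le_iff_exists.mp hBT
  refine ⟨g, hg, kG_of_chief hT hA hgT (f4 g hg) (f5 g hg _ le_rfl) fun U V hUV hU => ?_⟩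
  refine (commutator_mono (commutator_mono le_rfl (zpowers_le.mpr hg)) (zpowers_le.mpr hg)).trans ?_
  haveI := hUV.2.1
  haveI := hUV.2.2.1
  have hsub := subn_centralizer_sup hZp hc
  set L := B ⊔ 𝐂(A ⊓ 𝐂(A)) with hL
  set F₀ := (A ⊓ 𝐂(A)) ⊓ 𝐂(B) with hF₀
  set C₀ := A ⊓ commIn A F₀ with hC₀
  have hLF : L ≤ 𝐍(F₀) := le_trans (sup_le (le_centralizer_iff.mp inf_le_right)
    (centralizer_le_centralizer inf_le_left)) (centralizer_le_normalizer _)
  have hLC : L ≤ 𝐍(C₀) := le_normalizer_inf le_normalizer_of_normal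
    (le_normalizer_commIn le_normalizer_of_normal hLF)
  have hAF : A ≤ 𝐍(F₀) := (le_centralizer_iff.mp (inf_le_left.trans inf_le_right)).trans
    (centralizer_le_normalizer _)
  have g1 : ⁅C₀, B⁆ ≤ B ⊓ 𝐂(B) := f1 _ inf_le_left (le_sup_left.trans hLC)
    (((commutator_mono inf_le_right inf_le_left).trans (le_commIn_iff.mp le_rfl).2).trans
      inf_le_right)
  have g2 : ⁅⁅A, B⁆, B⁆ ≤ C₀ := by
    have h1 : ⁅⁅A, B⁆, B⁆ ≤ A := iterCommutator_le (N := A) (A := B) le_normalizer_of_normal 2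
    refine le_inf h1 (le_commIn_iff.mpr ⟨h1.trans hAF, le_inf ?_ ?_⟩)
    · exact (commutator_mono (h1.trans hA.le) le_rfl).trans hA.comm
    · exact ((commutator_mono f3 le_rfl).trans (commutator_le_of_le_normalizer_left hAZB)).trans
        inf_le_right
  have hUU : ⁅U, U⁆ ≤ V := chief_commutator_le hUV ((hT.to_le hA.le).to_le hU)
    ((hT.to_le hA.le).to_le hU)
  have hVF : V ≤ U ⊓ cFac B V := le_inf hUV.1.le (le_cFac_iff.mpr (commutator_le_right B V))
  have hUF : U ≤ 𝐍(U ⊓ cFac B V) := le_normalizer_of_commutator_le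
    (((commutator_mono inf_le_left le_rfl).trans hUU).trans hVF)
  have key := clifford (V := V) (U := U) (R := commIn B (U ⊓ cFac B V)) hsub (by
    intro W hWU hW
    refine le_commIn_iff.mpr ⟨hWU.trans hUF, le_inf
      ((commutator_mono hWU le_rfl).trans (commutator_le_left U B)) ?_⟩
    rw [le_cFac_iff, commutator_comm]
    rcases hW.min (V ⊔ (W ⊓ C₀)) le_sup_left (sup_le hW.lt.le inf_le_left)
      (le_normalizer_sup le_normalizer_of_normal (le_normalizer_inf hW.inv hLC)) with h | h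
    · refine le_trans (le_inf ?_ ?_) (le_sup_right.trans h.le)
      · exact iterCommutator_le (N := W) (A := B) (le_sup_left.trans hW.inv) 2
      · exact (commutator_mono (commutator_mono (hWU.trans hU) le_rfl) le_rfl).trans g2
    · rw [← map_mk'_eq_bot_iff, map_commutator, map_commutator, ← h, Subgroup.map_sup,
        map_mk'_eq_bot_iff.mpr le_rfl, bot_sup_eq, ← map_commutator, ← map_commutator,
        commutator_eq_bot_iff_le_centralizer.mpr
          (((commutator_mono inf_le_right le_rfl).trans g1).trans inf_le_right), Subgroup.map_bot])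
    U le_rfl ⟨hUV.1, le_normalizer_of_normal, fun W h1 h2 h3 =>
      hUV.2.2.2 W (normal_of_le_normalizer_top h3) h1 h2⟩
  have := (le_commIn_iff.mp key).2.trans inf_le_right
  rwa [le_cFac_iff, commutator_comm] at this

theorem exists_kG {S A : Subgroup G} (hTS : T ≤ S) (hT : IsPGroup p T) (hA : Crit T A)
    (hK : ¬ (kLoInf S).Normal ∨ ¬ (kUpInf S).Normal) : ∃ g ∈ S, KG p T A g := by
  classical
  haveI := hA.normal
  have hex : ∃ n, ¬ (kEven S n ≤ T ∧ kOdd S (n + 1) ≤ T) := by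
    by_contra h
    push Not at h
    obtain ⟨h1, h2⟩ := kInf_eq_of_le hTS h
    rw [← h1, ← h2] at hK
    rcases hK with hK | hK
    · exact hK (normal_of_le_normalizer_top fun g _ =>
        mem_normalizer_kLoInf (le_normalizer_of_normal (mem_top g)))
    · exact hK (normal_of_le_normalizer_top fun g _ =>
        mem_normalizer_kUpInf (le_normalizer_of_normal (mem_top g)))
  have hA2 : ⁅A, A⁆ ≤ 𝐂(A) := ((commutator_mono hA.le le_rfl).trans hA.comm).trans inf_le_right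
  have hn := Nat.find_spec hex
  have hmin := fun m => Nat.find_min hex (m := m)
  set n := Nat.find hex
  by_cases h1 : kEven S n ≤ T
  · have h2 : ¬ kOdd S (n + 1) ≤ T := fun h => hn ⟨h1, h⟩
    by_cases h3 : LoC (kOdd S n) A
    · obtain ⟨B, hB, hBT⟩ : ∃ B, (B ≤ S ∧ UpC (kEven S n) B) ∧ ¬ B ≤ T := by
        by_contra h
        push Not at h
        exact h2 (sSup_le h)
      obtain ⟨g, hg, hgT⟩ := SetLike.not_le_iff_exists.mp hBT
      refine ⟨g, hB.1 hg, kG_of_quadratic' hT hA hgT ?_⟩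
      rw [commutator_comm]
      exact ((commutator_mono (zpowers_le.mpr hg) (le_kLo (hA.le.trans hTS) h3)).trans hB.2.2).trans
        (inf_le_right.trans (centralizer_le_centralizer (zpowers_le.mpr hg)))
    · rw [LoC] at h3
      push Not at h3
      obtain ⟨B, b1, b2, b3, b4, b5, b6⟩ := h3 hA2 le_normalizer_of_normal
      have hBT : ¬ B ≤ T := fun h => b6 (by
        rw [commutator_comm]; exact (commutator_mono h le_rfl).trans hA.comm)
      obtain ⟨g, hg, hgT⟩ := SetLike.not_le_iff_exists.mp hBT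
      refine ⟨g, kOdd_le S n (b2 hg), kG_of_quadratic hT hA hgT (le_inf
        (iterCommutator_le (N := A) (A := zpowers g) le_normalizer_of_normal 2) ?_) ?_⟩
      · rw [commutator_eq_bot_iff_le_centralizer, le_centralizer_iff] at b4
        exact (commutator_mono ((commutator_mono le_rfl (zpowers_le.mpr hg)).trans
          (commutator_le_of_le_normalizer_right b3)) (zpowers_le.mpr hg)).trans b4
      · exact le_bot_iff.mp (b5 ▸ commutator_mono (commutator_mono le_rfl (zpowers_le.mpr hg))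
          (zpowers_le.mpr hg))
  · have h2 : A ≤ kOdd S n := by
      rcases hn0 : n with _ | m
      · exact hA.le.trans hTS
      · have := not_not.mp (hmin m (by omega))
        refine le_kUp (hA.le.trans hTS) ⟨hA2, ?_⟩
        rw [commutator_comm]
        exact (commutator_mono this.1 le_rfl).trans hA.comm
    obtain ⟨B, hB, hBT⟩ : ∃ B, (B ≤ S ∧ LoC (kOdd S n) B) ∧ ¬ B ≤ T := by
      by_contra h
      push Not at h
      exact h1 (sSup_le h)
    obtain ⟨g, hg, h⟩ := kG_of_loC hT hA (hB.2.anti h2) hBT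
    exact ⟨g, hB.1 hg, h⟩

end Cfsg.Agent.Lib.Flav
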