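/-
Element-level calculus for opposite root elements of a quadratic pair.
-/
import Cfsg.Agent.Lib.Root.Quad6

set_option autoImplicit false
set_option linter.unusedSectionVars false

namespace Cfsg.Agent.Lib.Flav

open Cfsg Cfsg.Agent.Lib.Root LinearMap

variable {k : Type*} [Field k] {M : Type*} [AddCommGroup M] [Module k M] [FiniteDimensional k M]
  {G : Subgroup (GLM k M)} {x y u v w t s a b F F' : Module.End k M}

/-- `x` and `F` are partners. -/
structure Pair (x F : Module.End k M) : Prop where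
  h1 : x * (F * x) = x
  h2 : F * (x * F) = F

theorem Pair.symm (h : Pair x F) : Pair F x := ⟨h.h2, h.h1⟩

theorem Pair.h1' (h : Pair x F) (r : Module.End k M) : x * (F * (x * r)) = x * r := by
  rw [← mul_assoc F, ← mul_assoc, h.h1]

theorem Pair.h2' (h : Pair x F) (r : Module.End k M) : F * (x * (F * r)) = F * r := h.symm.h1' r

theorem Pair.op (h : Pair x F) (h0 : x ≠ 0) : Op x F := by
  rw [Op, h.h1]; exact h0

theorem Pair.ne_zero (h : Pair x F) (h0 : x ≠ 0) : F ≠ 0 := by
  rintro rfl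
  exact h0 (by simpa using h.h1.symm)

theorem Pair.left_of_range (h : Pair x F) (hy : range y ≤ range x) : x * (F * y) = y := by
  ext m
  obtain ⟨m', hm⟩ := hy ⟨m, rfl⟩
  have := LinearMap.congr_fun h.h1 m'
  simp only [Module.End.mul_apply] at this ⊢
  rw [← hm, this]

theorem Pair.right_of_ker (h : Pair x F) (hy : ker x ≤ ker y) : y * (F * x) = y := by
  have : y * (1 - F * x) = 0 :=
    mul_eq_zero_of_ker_le hy (by rw [mul_sub, mul_one, h.h1, sub_self])
  rw [mul_sub, mul_one, sub_eq_zero] at this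
  exact this.symm

theorem Pair.conj (h : Pair x F) (hba : b * a = 1) : Pair (a * x * b) (a * F * b) := by
  have hba' : ∀ r, b * (a * r) = r := fun r => by rw [← mul_assoc, hba, one_mul]
  constructor
  · simp only [mul_assoc, hba', h.h1']
  · simp only [mul_assoc, hba', h.h2']

/-- The Weyl element moves `E(F)` onto `E(x)`. -/
theorem weyl_conj (h : Pair x F) (hF : F * F = 0) (hy : y ∈ ES G F) :
    (1 - F) * (1 + x) * y * ((1 - x) * (1 + F)) = -(x * (y * x)) := by
  have e1 : F * (x * y) = y := h.symm.left_of_range (ES.range_le hy)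
  have e2 : y * (x * F) = y := h.symm.right_of_ker (ES.ker_le hy)
  have e3 : y * F = 0 := mul_eq_zero_of_ker_le (ES.ker_le hy) hF
  have e4 : F * y = 0 := mul_eq_zero_of_range_le ((ES.range_le hy).trans (range_le_ker_of_mul hF))
  have e1' : ∀ r, F * (x * (y * r)) = y * r := fun r => by rw [← mul_assoc x, ← mul_assoc, e1]
  have e4' : ∀ r, F * (y * r) = 0 := fun r => by rw [← mul_assoc, e4, zero_mul]
  simp only [mul_sub, sub_mul, mul_add, add_mul, mul_assoc, mul_one, one_mul, e1, e2, e3, e4, e1',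
    e4', mul_zero, zero_mul]
  abel

theorem weyl_inv (hx : x * x = 0) (hF : F * F = 0) :
    (1 - F) * (1 + x) * ((1 - x) * (1 + F)) = 1 := by
  have hx' : ∀ r, x * (x * r) = 0 := fun r => by rw [← mul_assoc, hx, zero_mul]
  simp only [mul_sub, sub_mul, mul_add, add_mul, mul_assoc, mul_one, one_mul, hx, hF, hx', mul_zero]
  abel

/-! ### quadratic polynomials -/

theorem quad_three {V : Type*} [AddCommGroup V] [Module k V] {a b c : V} {t1 t2 t3 : k}
    (h12 : t1 ≠ t2) (h13 : t1 ≠ t3) (h23 : t2 ≠ t3) (e1 : a + t1 • b + (t1 * t1) • c = 0)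
    (e2 : a + t2 • b + (t2 * t2) • c = 0) (e3 : a + t3 • b + (t3 * t3) • c = 0) :
    a = 0 ∧ b = 0 ∧ c = 0 := by
  have f2 : b + (t1 + t2) • c = 0 := by
    have : (t1 - t2) • (b + (t1 + t2) • c) = 0 := by
      rw [← sub_eq_zero.2 (e1.trans e2.symm)]; module
    exact (smul_eq_zero.1 this).resolve_left (sub_ne_zero.2 h12)
  have f3 : b + (t1 + t3) • c = 0 := by
    have : (t1 - t3) • (b + (t1 + t3) • c) = 0 := by
      rw [← sub_eq_zero.2 (e1.trans e3.symm)]; module
    exact (smul_eq_zero.1 this).resolve_left (sub_ne_zero.2 h13)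
  have hc : c = 0 := by
    have : (t2 - t3) • c = 0 := by
      rw [← sub_eq_zero.2 (f2.trans f3.symm)]; module
    exact (smul_eq_zero.1 this).resolve_left (sub_ne_zero.2 h23)
  have hb : b = 0 := by simpa [hc] using f2
  exact ⟨by simpa [hb, hc] using e1, hb, hc⟩

theorem quad_cover [Finite k] (hk5 : 5 ≤ Nat.card k) {V W : Type*} [AddCommGroup V] [Module k V]
    [AddCommGroup W] [Module k W] {a b c : V} {a' b' c' : W}
    (h : ∀ t : k, a + t • b + (t * t) • c = 0 ∨ a' + t • b' + (t * t) • c' = 0) :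
    (a = 0 ∧ b = 0 ∧ c = 0) ∨ (a' = 0 ∧ b' = 0 ∧ c' = 0) := by
  classical
  letI := Fintype.ofFinite k
  let Z1 := Finset.univ.filter fun t : k => a + t • b + (t * t) • c = 0
  let Z2 := Finset.univ.filter fun t : k => a' + t • b' + (t * t) • c' = 0
  have hU : Z1 ∪ Z2 = Finset.univ := by
    ext t; simpa [Z1, Z2] using h t
  have hc := Finset.card_union_le Z1 Z2
  rw [hU, Finset.card_univ, ← Nat.card_eq_fintype_card] at hc
  by_cases h1 : 2 < Z1.card
  · obtain ⟨t1, t2, t3, m1, m2, m3, n1, n2, n3⟩ := Finset.two_lt_card_iff.1 h1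
    exact Or.inl (quad_three n1 n2 n3 (Finset.mem_filter.1 m1).2 (Finset.mem_filter.1 m2).2
      (Finset.mem_filter.1 m3).2)
  · obtain ⟨t1, t2, t3, m1, m2, m3, n1, n2, n3⟩ := Finset.two_lt_card_iff.1 (show 2 < Z2.card by omega)
    exact Or.inr (quad_three n1 n2 n3 (Finset.mem_filter.1 m1).2 (Finset.mem_filter.1 m2).2
      (Finset.mem_filter.1 m3).2)

theorem conj_expand (c : k) (w y : Module.End k M) :
    (1 + c • w) * y * (1 - c • w) = y + c • (w * y - y * w) + (c * c) • (-(w * (y * w))) := by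
  simp only [mul_sub, sub_mul, mul_add, add_mul, mul_one, one_mul, smul_mul_assoc, mul_smul_comm,
    mul_assoc]
  module

theorem sandwich_expand (c : k) (w y u : Module.End k M) :
    y * ((1 - c • w) * u * (1 + c • w) * y) =
      y * (u * y) + c • (y * ((u * w - w * u) * y)) + (c * c) • (-(y * (w * (u * w) * y))) := by
  simp only [mul_sub, sub_mul, mul_add, add_mul, mul_one, one_mul, smul_mul_assoc, mul_smul_comm,
    mul_assoc]
  module

theorem op_conj_iff (hab : a * b = 1) (hba : b * a = 1) : Op (a * y * b) u ↔ Op y (b * u * a) := by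
  have hba' : ∀ r, b * (a * r) = r := fun r => by rw [← mul_assoc, hba, one_mul]
  have hab' : ∀ r, a * (b * r) = r := fun r => by rw [← mul_assoc, hab, one_mul]
  unfold Op
  refine not_congr ⟨fun e => ?_, fun e => ?_⟩
  · have := congrArg (fun r => b * r * a) e
    simpa only [mul_assoc, hba', hba, mul_one, mul_zero, zero_mul] using this
  · have := congrArg (fun r => a * r * b) e
    simpa only [mul_assoc, mul_zero, zero_mul] using this

theorem op_congr (hx : Nd G x) (hu : u ∈ ES G x) (u0 : u ≠ 0) (r : Module.End k M) :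
    Op u r ↔ Op x r := by
  have key : ∀ a b : Module.End k M, ker a = ker b → range a = range b → a * (r * a) = 0 →
      b * (r * b) = 0 := by
    intro a b h1 h2 e
    have e1 : b * (r * a) = 0 := mul_eq_zero_of_ker_le h1.le e
    rw [← mul_assoc] at e1 ⊢
    exact mul_eq_zero_of_range_le (h2 ▸ range_le_ker_of_mul e1)
  exact not_congr ⟨key u x (hx.ker_of_mem_ES hu u0) (hx.range_of_mem_ES hu u0),
    key x u (hx.ker_of_mem_ES hu u0).symm (hx.range_of_mem_ES hu u0).symm⟩

theorem pair_unique (hF : Nd G F) (hx : Op x F) (h1 : u ∈ ES G F) (h2 : v ∈ ES G F)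
    (hxd : Nd G x) (hk2 : ringChar k ≠ 2) (hk3 : Nat.card k ≠ 3)
    (e : x * (u * x) = x * (v * x)) : u = v := by
  by_contra hne
  have := hx.of_mem_ES hk2 hk3 hxd hF (self_mem_ES hxd.1) hxd.2.1 ((ES G F).sub_mem h1 h2)
    (sub_ne_zero.2 hne)
  exact this (by rw [sub_mul, mul_sub, e, sub_self])

section char
variable (hk2 : ringChar k ≠ 2) (hk3 : Nat.card k ≠ 3)
include hk2 hk3

theorem exists_partner (hx : Nd G x) (hy : Nd G y) (h : Op x y) :
    ∃ F ∈ ES G y, Nd G F ∧ Pair x F := by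
  obtain ⟨F, hF, h1, h2⟩ := exists_pair hk2 hk3 hx hy h
  exact ⟨F, hF, hy.of_mem_ES hF (Pair.ne_zero ⟨h1, h2⟩ hx.2.1), h1, h2⟩

theorem xyx_mem (hx : Nd G x) (hy : Nz G y) : x * (y * x) ∈ ES G x := by
  by_cases h0 : x * (y * x) = 0
  · rw [h0]; exact zero_mem _
  obtain ⟨f, hf, ι, F, -, h2, -, -, h5, h6, h7, h8, -, h10, h11, h12, h13⟩ :=
    exists_field hk2 hk3 hx hy h0
  have hp : Pair x F := by
    rw [← h5] at h6 h7
    exact ⟨by simpa [add_mul, mul_assoc, hx.1.sq] using h6,
      by simpa [add_mul, mul_assoc, h8.1.sq] using h7⟩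
  have m : ι 1 * y ∈ ES G F := (mem_ES h8.1.1).2 ⟨h11.1, h12.le, h13.ge⟩
  have e := weyl_conj hp h8.1.1 m
  have e' : x * (ι 1 * y * x) = x * (y * x) := by
    rw [mul_assoc, ← mul_assoc x, ← h2, h6]
  have nz := h11.1.conj (h8.1.one_sub.mul hx.1.one_add) (weyl_inv hx.1.1 h8.1.1)
  rw [e, e'] at nz
  refine (mem_ES hx.1.1).2 ⟨by simpa using nz.neg, ?_, range_mul_le _ _⟩
  rw [← mul_assoc]; exact ker_mul_ge _ _

/-- a quadratic element opposite to some root element contains a root element -/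
theorem exists_root_part (hx : Nd G x) (hu : Nz G u) (h : Op x u) :
    ∃ a ∈ ES G u, Nd G a ∧ rk (u - a) < rk u := by
  obtain ⟨f, hf, ι, F, -, -, -, -, -, -, -, -, -, h1, h2, -⟩ := exists_field hk2 hk3 hx hu h
  have ee : ι 1 * ι 1 = ι 1 := by rw [← map_mul, mul_one]
  have m1 : ι 1 * u ∈ ES G u := (mem_ES hu.1).2 ⟨h2.1, ker_mul_ge _ _, h1 ▸ range_mul_le _ _⟩
  have m2 : u - ι 1 * u ∈ ES G u := Submodule.sub_mem _ (self_mem_ES hu) m1
  refine ⟨_, m1, h2, ?_⟩
  refine Submodule.finrank_lt_finrank_of_lt (lt_of_le_of_ne (ES.range_le m2) fun e => h2.2.1 ?_)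
  refine mul_eq_zero_of_range_le (e ▸ range_le_ker_of_mul ?_)
  rw [mul_sub, ← mul_assoc, ee, sub_self]

/-- two partners with the same central involution are conjugate under the root group -/
theorem pair_trans_aux (hx : Nd G x) (hF : Nd G F) (hF' : Nd G F') (h : Pair x F) (h' : Pair x F')
    (e : x * F + F * x = x * F' + F' * x) :
    ∃ φ ∈ ES G x, (1 + φ) * F * (1 - φ) = F' := by
  have h2 : (2 : k) ≠ 0 := Ring.two_ne_zero hk2
  have xx := hx.1.sq
  have xx' := hx.1.sq'
  have FF := hF.1.sq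
  have FF' := hF.1.sq'
  have GG := hF'.1.sq
  have GG' := hF'.1.sq'
  have r1 : F * (x * (F' * F)) = -(F * (F' * (x * F))) := by
    have := congrArg (fun r => F * r * F) e
    simp only [mul_add, add_mul, mul_assoc, FF, FF', mul_zero, add_zero] at this
    rw [eq_neg_iff_add_eq_zero, this]
  have m1 := xyx_mem hk2 hk3 hF hF'.1
  have m2 := xyx_mem hk2 hk3 hF (hF'.1.conj hx.1.one_add hx.1.add_mul_sub)
  have m3 : F * (F' * (x * F)) ∈ ES G F := by
    have := (ES G F).smul_mem (2 : k)⁻¹
      ((ES G F).sub_mem ((ES G F).sub_mem m1 m2) (self_mem_ES hF.1))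
    convert this using 1
    rw [eq_inv_smul_iff₀ h2]
    simp only [mul_sub, sub_mul, mul_add, add_mul, mul_assoc, mul_one, one_mul, r1, h'.h1',
      h.h2]
    module
  have m4 := xyx_mem hk2 hk3 hx (ES.nz m3)
  simp only [mul_assoc, h.h1] at m4
  refine ⟨_, m4, ?_⟩
  have l1 : (x * F + F * x) * F' = F' := by
    rw [e]; simp only [add_mul, mul_assoc, GG, mul_zero, zero_add, h'.h2]
  have l2 : F' * (x * F + F * x) = F' := by
    rw [e]; simp only [mul_add, GG', add_zero, h'.h2]
  have l3 : F' * ((x * F + F * x) * F') = 0 := by rw [l1, GG]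
  have l4 : x * (F * (F' * (F * x))) = -(x * (F * (F' * (x * (F * (F' * x)))))) := by
    have := congrArg (fun r => x * F * r * x) l3
    simp only [mul_add, add_mul, mul_assoc, mul_zero, zero_mul, h'.h1] at this
    rw [eq_neg_iff_add_eq_zero, add_comm, this]
  have l5 : F * (x * (F' * (F * x))) = -(F * (F' * x)) := by
    have := congrArg (fun r => r * x) r1
    simpa only [mul_assoc, neg_mul, h.h1] using this
  calc _ = (x * F + F * x) * F' * (x * F + F * x) := by
        simp only [mul_sub, sub_mul, mul_add, add_mul, mul_assoc, mul_one, one_mul, h.h1', h.h2',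
          h'.h1', h.h2, l4, l5]
        abel
    _ = F' := by rw [l1, l2]

end char

end Cfsg.Agent.Lib.Flav
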