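/-
The unipotent radical `U(x)` of a root element and its action on the partners of `x`.
-/
import Cfsg.Agent.Lib.Flav.Q1

set_option autoImplicit false
set_option linter.unusedSectionVars false

namespace Cfsg.Agent.Lib.Flav

open Cfsg Cfsg.Agent.Lib.Root LinearMap

variable {k : Type*} [Field k] {M : Type*} [AddCommGroup M] [Module k M] [FiniteDimensional k M]
  {G : Subgroup (GLM k M)} {x y u v w t s a b d F F' : Module.End k M}

/-- `Y` lowers the flag `M > ker x > range x > 0`. -/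
structure Lw (x Y : Module.End k M) : Prop where
  l1 : range Y ≤ ker x
  l2 : range x ≤ ker Y
  l3 : ∀ m ∈ ker x, Y m ∈ range x

theorem Lw.xY {Y : Module.End k M} (h : Lw x Y) : x * Y = 0 := mul_eq_zero_of_range_le h.l1
theorem Lw.Yx {Y : Module.End k M} (h : Lw x Y) : Y * x = 0 := mul_eq_zero_of_range_le h.l2

theorem lw_of {Y : Module.End k M} (h1 : x * Y = 0) (h2 : Y * x = 0)
    (h3 : ∀ m ∈ ker x, Y m ∈ range x) : Lw x Y :=
  ⟨range_le_ker_of_mul h1, range_le_ker_of_mul h2, h3⟩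

theorem Lw.congr {Y : Module.End k M} (h : Lw x Y) (h1 : ker t = ker x) (h2 : range t = range x) :
    Lw t Y := ⟨h1 ▸ h.l1, h2 ▸ h.l2, h1 ▸ h2 ▸ h.l3⟩

theorem Lw.sq_range {Y Z : Module.End k M} (h : Lw x Y) (h' : Lw x Z) : range (Y * Z) ≤ range x := by
  rintro _ ⟨m, rfl⟩
  exact h.l3 _ (h'.l1 ⟨m, rfl⟩)

theorem Lw.sq_ker {Y Z : Module.End k M} (h : Lw x Y) (h' : Lw x Z) : ker x ≤ ker (Y * Z) :=
  fun m hm => h.l2 (h'.l3 m hm)

theorem Lw.cube {Y : Module.End k M} (h : Lw x Y) : Y ^ 3 = 0 := by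
  rw [pow_succ', pow_two]
  exact mul_eq_zero_of_range_le ((h.sq_range h).trans h.l2)

theorem Lw.mid {Y : Module.End k M} (h : Lw x Y) (hp : Pair x F) :
    (1 - x * F) * (Y * (1 - F * x)) = 0 := by
  ext m
  have h1 : (1 - F * x) m ∈ ker x := by
    have := LinearMap.congr_fun hp.h1 m
    simp only [Module.End.mul_apply] at this
    simp [this]
  obtain ⟨m', hm'⟩ := h.l3 _ h1
  have := LinearMap.congr_fun hp.h1 m'
  simp only [Module.End.mul_apply] at this
  rw [Module.End.mul_apply, Module.End.mul_apply, ← hm']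
  simp [this]

/-- the group `U(x)` -/
def UU (G : Subgroup (GLM k M)) (x : Module.End k M) : Subgroup (GLM k M) where
  carrier := {g | g ∈ G ∧ Lw x ((g : Module.End k M) - 1)}
  one_mem' := ⟨one_mem _, lw_of (by simp) (by simp) (by simp)⟩
  mul_mem' := fun {g h} hg hh => by
    have e : ((g * h : GLM k M) : Module.End k M) - 1 = ((g : Module.End k M) - 1) *
        ((h : Module.End k M) - 1) + ((g : Module.End k M) - 1) + ((h : Module.End k M) - 1) := by
      rw [Units.val_mul]; noncomm_ring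
    refine ⟨mul_mem hg.1 hh.1, lw_of ?_ ?_ fun m hm => ?_⟩
    · rw [e, mul_add, mul_add, ← mul_assoc, hg.2.xY, hh.2.xY]; simp
    · rw [e, add_mul, add_mul, mul_assoc, hg.2.Yx, hh.2.Yx]; simp
    · rw [e]
      exact add_mem (add_mem (hg.2.sq_range hh.2 ⟨m, rfl⟩) (hg.2.l3 m hm)) (hh.2.l3 m hm)
  inv_mem' := fun {g} hg => by
    have e1 : ((g⁻¹ : GLM k M) : Module.End k M) - 1 =
        -(((g : Module.End k M) - 1) * (g⁻¹ : GLM k M)) := by
      rw [sub_mul, Units.mul_inv]; noncomm_ring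
    have e2 : ((g⁻¹ : GLM k M) : Module.End k M) - 1 =
        -((g⁻¹ : GLM k M) * ((g : Module.End k M) - 1)) := by
      rw [mul_sub, Units.inv_mul]; noncomm_ring
    have e3 : x * (((g⁻¹ : GLM k M) : Module.End k M) - 1) = 0 := by
      rw [e1, mul_neg, ← mul_assoc, hg.2.xY]; simp
    refine ⟨inv_mem hg.1, lw_of e3 ?_ fun m hm => ?_⟩
    · rw [e2, neg_mul, mul_assoc, hg.2.Yx]; simp
    · rw [e1]
      refine neg_mem (hg.2.l3 _ ?_)
      have := LinearMap.congr_fun e3 m
      rw [mul_sub, mul_one] at this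
      rw [mem_ker] at hm ⊢
      simpa [hm] using this

theorem mem_UU {g : GLM k M} : g ∈ UU G x ↔ g ∈ G ∧ Lw x ((g : Module.End k M) - 1) := Iff.rfl

theorem UU_le : UU G x ≤ G := fun _ h => h.1

theorem UU_congr (h1 : ker t = ker x) (h2 : range t = range x) : UU G t = UU G x := by
  ext g
  exact ⟨fun h => ⟨h.1, h.2.congr h1.symm h2.symm⟩, fun h => ⟨h.1, h.2.congr h1 h2⟩⟩

theorem UU.comm {g : GLM k M} (h : g ∈ UU G x) : (g : Module.End k M) * x = x * g := by
  have h1 := h.2.xY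
  have h2 := h.2.Yx
  rw [mul_sub, sub_eq_zero] at h1
  rw [sub_mul, sub_eq_zero] at h2
  rw [h1, h2, mul_one, one_mul]

theorem un_mem_UU (hx : x * x = 0) (ht : t ∈ ES G x) : un t (ES.nz ht).1 ∈ UU G x := by
  refine ⟨InG.mem (ES.nz ht).one_add, ?_⟩
  simp only [coe_un, add_sub_cancel_left]
  refine ⟨(ES.range_le ht).trans (range_le_ker_of_mul hx),
    (range_le_ker_of_mul hx).trans (ES.ker_le ht), fun m hm => ?_⟩
  rw [show t m = 0 from ES.ker_le ht hm]; exact zero_mem _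

theorem conj_mem_UU {g h : GLM k M} (hG : ∀ a ∈ G, g * a * g⁻¹ ∈ G) {c : k} (hc : c ≠ 0)
    (hx : (g : Module.End k M) * x = c • (x * g)) (hh : h ∈ UU G x) : g * h * g⁻¹ ∈ UU G x := by
  have e : ((g * h * g⁻¹ : GLM k M) : Module.End k M) - 1 =
      g * ((h : Module.End k M) - 1) * (g⁻¹ : GLM k M) := by
    rw [mul_sub, sub_mul, mul_one, Units.mul_inv, Units.val_mul, Units.val_mul]
  have hx' : x * (g : Module.End k M) = c⁻¹ • (g * x) := by
    rw [hx, smul_smul, inv_mul_cancel₀ hc, one_smul]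
  have hx'' : ((g⁻¹ : GLM k M) : Module.End k M) * x = c⁻¹ • (x * (g⁻¹ : GLM k M)) := by
    have := congrArg (fun r => ((g⁻¹ : GLM k M) : Module.End k M) * r * (g⁻¹ : GLM k M)) hx'
    simp only [mul_smul_comm, smul_mul_assoc, mul_assoc, Units.mul_inv, mul_one] at this
    rw [this, ← mul_assoc, Units.inv_mul, one_mul]
  refine ⟨hG _ hh.1, lw_of ?_ ?_ fun m hm => ?_⟩
  · rw [e, ← mul_assoc, ← mul_assoc, hx', smul_mul_assoc, mul_assoc _ x, hh.2.xY]; simp
  · rw [e, mul_assoc, hx'', mul_smul_comm, ← mul_assoc, mul_assoc _ _ x, hh.2.Yx]; simp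
  · have h1 : ((g⁻¹ : GLM k M) : Module.End k M) m ∈ ker x := by
      have := LinearMap.congr_fun hx'' m
      rw [mem_ker] at hm ⊢
      simp only [Module.End.mul_apply, hm, map_zero, LinearMap.smul_apply] at this
      exact (smul_eq_zero.1 this.symm).resolve_left (inv_ne_zero hc)
    obtain ⟨m', hm'⟩ := hh.2.l3 _ h1
    refine ⟨c • (g : Module.End k M) m', ?_⟩
    have := LinearMap.congr_fun hx m'
    simp only [Module.End.mul_apply, LinearMap.smul_apply] at this
    rw [e, Module.End.mul_apply, Module.End.mul_apply, ← hm', this, map_smul]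

theorem UU.eq_one {g : GLM k M} (h : g ∈ UU G x) (hp : Pair x F)
    (hF : (g : Module.End k M) * F = F * g) : g = 1 := by
  set Y := (g : Module.End k M) - 1 with hY
  have c : Y * F = F * Y := by rw [hY, sub_mul, mul_sub, hF, one_mul, mul_one]
  have e1 : Y * F = 0 := by
    rw [← hp.h2, ← mul_assoc, c, mul_assoc, ← mul_assoc Y, h.2.Yx, zero_mul, mul_zero]
  have := h.2.mid hp
  rw [← hY, mul_sub, mul_one, ← mul_assoc Y, e1, zero_mul, sub_zero, sub_mul, one_mul, mul_assoc,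
    ← c, e1, mul_zero, sub_zero] at this
  exact Units.ext (sub_eq_zero.1 this)

theorem UU.pow_eq_one {p : ℕ} [Fact p.Prime] [CharP k p] (hp : 3 ≤ p) {g : GLM k M}
    (h : g ∈ UU G x) : g ^ p = 1 := by
  rcases subsingleton_or_nontrivial M with hM | hM
  · exact Subsingleton.elim _ _
  haveI : CharP (Module.End k M) p := charP_of_injective_algebraMap
    (FaithfulSMul.algebraMap_injective k (Module.End k M)) p
  apply Units.ext
  have e : (g : Module.End k M) = 1 + ((g : Module.End k M) - 1) := by abel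
  rw [Units.val_pow_eq_pow_val, e, add_pow_char_of_commute _ (Commute.one_left _), one_pow,
    pow_eq_zero_of_le hp h.2.cube, add_zero, Units.val_one]

/-- the central involution of the `SL₂` spanned by partners -/
def zz (hx : x * x = 0) (hF : F * F = 0) : GLM k M :=
  (un x hx * (un F hF)⁻¹ * un x hx) ^ 2

theorem coe_zz (hx : x * x = 0) (hF : F * F = 0) (hp : Pair x F) :
    (zz hx hF : Module.End k M) = 1 - (x * F + F * x) - (x * F + F * x) := by
  have hx' : ∀ r, x * (x * r) = 0 := fun r => by rw [← mul_assoc, hx, zero_mul]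
  have hF' : ∀ r, F * (F * r) = 0 := fun r => by rw [← mul_assoc, hF, zero_mul]
  simp only [zz, pow_two, Units.val_mul, coe_un, coe_un_inv, mul_sub, sub_mul, mul_add, add_mul,
    mul_assoc, mul_one, one_mul, hx, hF, hx', hF', hp.h1, hp.h2, hp.h1', hp.h2', mul_zero]
  abel

theorem zz_mem (hx : Nz G x) (hF : Nz G F) : zz hx.1 hF.1 ∈ G :=
  pow_mem (mul_mem (mul_mem (InG.mem hx.one_add) (inv_mem (InG.mem hF.one_add)))
    (InG.mem hx.one_add)) 2

theorem zz_mul_self (hx : x * x = 0) (hF : F * F = 0) (hp : Pair x F) :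
    zz hx hF * zz hx hF = 1 := by
  have hx' : ∀ r, x * (x * r) = 0 := fun r => by rw [← mul_assoc, hx, zero_mul]
  have hF' : ∀ r, F * (F * r) = 0 := fun r => by rw [← mul_assoc, hF, zero_mul]
  apply Units.ext
  rw [Units.val_mul, coe_zz hx hF hp]
  simp only [mul_sub, sub_mul, mul_add, add_mul, Units.val_one,
    mul_assoc, mul_one, one_mul, hx, hF, hx', hF', hp.h1, hp.h2, hp.h1', hp.h2', mul_zero]
  abel

theorem zz_mul_x (hx : x * x = 0) (hF : F * F = 0) (hp : Pair x F) :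
    (zz hx hF : Module.End k M) * x = -x := by
  rw [coe_zz hx hF hp]
  simp only [sub_mul, add_mul, mul_assoc, hx, hp.h1, mul_zero, one_mul]
  abel

theorem x_mul_zz (hx : x * x = 0) (hF : F * F = 0) (hp : Pair x F) :
    x * (zz hx hF : Module.End k M) = -x := by
  rw [coe_zz hx hF hp]
  simp only [mul_sub, mul_add, ← mul_assoc, hx, zero_mul, mul_one]
  rw [mul_assoc, hp.h1]
  abel

theorem zz_comm {g : Module.End k M} (hx : x * x = 0) (hF : F * F = 0) (hp : Pair x F)
    (h1 : g * x = x * g) (h2 : g * F = F * g) : g * zz hx hF = zz hx hF * g := by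
  have : Commute g (x * F + F * x) :=
    (Commute.mul_right h1 h2).add_right (Commute.mul_right h2 h1)
  rw [coe_zz hx hF hp]
  exact ((Commute.one_right g).sub_right this).sub_right this

theorem zz_mul_zz_mem (hx : Nz G x) (hF : Nz G F) (hF' : Nz G F') (h : Pair x F)
    (h' : Pair x F') : zz hx.1 hF.1 * zz hx.1 hF'.1 ∈ UU G x := by
  refine ⟨mul_mem (zz_mem hx hF) (zz_mem hx hF'), lw_of ?_ ?_ fun m hm => ?_⟩
  · rw [mul_sub, Units.val_mul, ← mul_assoc, x_mul_zz _ _ h, neg_mul, x_mul_zz _ _ h']; simp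
  · rw [sub_mul, Units.val_mul, mul_assoc, zz_mul_x _ _ h', mul_neg, zz_mul_x _ _ h]; simp
  · rw [mem_ker] at hm
    have xx : ∀ m, x (x m) = 0 := fun m => LinearMap.congr_fun hx.1 m
    refine ⟨(4 : k) • F (x (F' m)) - (2 : k) • F m - (2 : k) • F' m, ?_⟩
    rw [Units.val_mul, coe_zz _ _ h, coe_zz _ _ h']
    simp only [Module.End.mul_apply, LinearMap.sub_apply, LinearMap.add_apply, Module.End.one_apply, hm, map_zero,
      add_zero, map_sub, map_smul, xx]
    module

section char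
variable (hk2 : ringChar k ≠ 2) (hk3 : Nat.card k ≠ 3)
include hk2 hk3

/-- `U(x)` is transitive on the partners of `x`. -/
theorem pair_trans {p : ℕ} [Fact p.Prime] [CharP k p] (hp : 3 ≤ p) (hx : Nd G x) (hF : Nd G F)
    (hF' : Nd G F') (h : Pair x F) (h' : Pair x F') :
    ∃ v ∈ UU G x, (v : Module.End k M) * F * (v⁻¹ : GLM k M) = F' := by
  have h2 : (2 : k) ≠ 0 := Ring.two_ne_zero hk2
  set z := zz hx.1.1 hF.1.1 with hz
  set z' := zz hx.1.1 hF'.1.1 with hz'
  have zz1 : z * z = 1 := zz_mul_self _ _ h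
  have zz2 : z' * z' = 1 := zz_mul_self _ _ h'
  have hw : z * z' ∈ UU G x := zz_mul_zz_mem hx.1 hF.1 hF'.1 h h'
  have wp := UU.pow_eq_one hp hw
  obtain ⟨j, hj⟩ : ∃ j, p + 1 = j + j := by
    have := (Fact.out : p.Prime).eq_two_or_odd'
    rcases this with h | ⟨j, hj⟩
    · omega
    · exact ⟨j + 1, by omega⟩
  have inv : z * (z * z') * z⁻¹ = (z * z')⁻¹ := by
    rw [eq_inv_iff_mul_eq_one, ← mul_assoc z z, zz1, one_mul, mul_assoc, inv_mul_cancel_left, zz2]
  have inv2 : z * (z * z') ^ j * z⁻¹ = ((z * z') ^ j)⁻¹ := by rw [← conj_pow, inv, inv_pow]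
  set v := (z * z') ^ j with hv
  have hvU : v ∈ UU G x := pow_mem hw j
  have key : v⁻¹ * z * v = z' := by
    rw [← inv2, inv_mul_cancel_right, mul_assoc, hv, ← pow_add, ← hj, pow_succ, wp, one_mul,
      ← mul_assoc, zz1, one_mul]
  have cx : ((v⁻¹ : GLM k M) : Module.End k M) * x * v = x := by
    rw [mul_assoc, ← UU.comm hvU, ← mul_assoc, Units.inv_mul, one_mul]
  have p1 := h.conj (a := (v⁻¹ : GLM k M)) (b := (v : Module.End k M)) (Units.mul_inv v)
  rw [cx] at p1
  have n1 := hF.conj (inG_of_mem (inv_mem hvU.1)) (Units.inv_mul v)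
  have e : x * ((v⁻¹ : GLM k M) * F * v) + (v⁻¹ : GLM k M) * F * v * x = x * F' + F' * x := by
    have k1 := congrArg Units.val key
    rw [Units.val_mul, Units.val_mul, hz, hz', coe_zz _ _ h, coe_zz _ _ h'] at k1
    have c1 : x * ((v⁻¹ : GLM k M) : Module.End k M) = (v⁻¹ : GLM k M) * x :=
      (UU.comm (inv_mem hvU)).symm
    have k2 : x * ((v⁻¹ : GLM k M) * F * v) + (v⁻¹ : GLM k M) * F * v * x =
        (v⁻¹ : GLM k M) * (x * F + F * x) * v := by
      rw [← mul_assoc, ← mul_assoc, c1, mul_assoc _ _ x, UU.comm hvU]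
      noncomm_ring
    rw [k2]
    simp only [mul_sub, sub_mul, mul_one, Units.inv_mul] at k1
    refine smul_right_injective _ h2 ?_
    simp only [two_smul]
    rw [sub_sub, sub_sub, sub_right_inj] at k1
    exact k1
  obtain ⟨φ, hφ, e'⟩ := pair_trans_aux hk2 hk3 hx n1 hF' p1 h' e
  refine ⟨un φ (ES.nz hφ).1 * v⁻¹, mul_mem (un_mem_UU hx.1.1 hφ) (inv_mem hvU), ?_⟩
  rw [← e']
  simp only [mul_inv_rev, inv_inv, Units.val_mul, coe_un, coe_un_inv, mul_assoc]

/-- every root element opposite to `x` is a `U(x)`-conjugate of an element of `E(F)` -/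
theorem op_decomp {p : ℕ} [Fact p.Prime] [CharP k p] (hp : 3 ≤ p) (hx : Nd G x) (hF : Nd G F)
    (h : Pair x F) (hd : Nd G d) (ho : Op x d) :
    ∃ t ∈ ES G x, ∃ F₁ ∈ ES G F, Nd G t ∧ F₁ ≠ 0 ∧ Pair t F₁ ∧ ∃ v ∈ UU G x,
      (v : Module.End k M) * F₁ * (v⁻¹ : GLM k M) = d := by
  obtain ⟨t, ht, nt, pt⟩ := exists_partner hk2 hk3 hd hx (ho.symm hk2 hx hd.1)
  obtain ⟨F₁, hF₁, n1, p1⟩ := exists_partner hk2 hk3 nt hF
    ((op_congr hx ht nt.2.1 F).2 (h.op hx.2.1))
  obtain ⟨v, hv, e⟩ := pair_trans hk2 hk3 hp nt n1 hd p1 pt.symm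
  rw [UU_congr (hx.ker_of_mem_ES ht nt.2.1) (hx.range_of_mem_ES ht nt.2.1)] at hv
  exact ⟨t, ht, F₁, hF₁, nt, n1.2.1, p1, v, hv, e⟩

theorem comm_of_op {p : ℕ} [Fact p.Prime] [CharP k p] (hp : 3 ≤ p) (hx : Nd G x) (hF : Nd G F)
    (h : Pair x F) {g : GLM k M} (hg : g ∈ G) (hgU : ∀ v ∈ UU G x, g * v = v * g)
    (hgF : (g : Module.End k M) * F = F * g) (hd : Nd G d) (ho : Op x d) :
    (g : Module.End k M) * d = d * g := by
  obtain ⟨t, ht, F₁, hF₁, nt, -, p1, v, hv, rfl⟩ := op_decomp hk2 hk3 hp hx hF h hd ho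
  have c1 : (g : Module.End k M) * t = t * g := by
    have := congrArg Units.val (hgU _ (un_mem_UU hx.1.1 ht))
    simpa [mul_add, add_mul] using this
  have m := mem_ES_conj hF₁ (inG_of_mem hg) (Units.mul_inv g)
  rw [hgF, mul_assoc F, Units.mul_inv, mul_one] at m
  have c2 : (g : Module.End k M) * F₁ * (g⁻¹ : GLM k M) = F₁ := by
    refine pair_unique hF ((op_congr hx ht nt.2.1 F).2 (h.op hx.2.1)) m hF₁ nt hk2 hk3 ?_
    have := (p1.conj (a := (g : Module.End k M)) (Units.inv_mul g)).h1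
    rw [c1, mul_assoc t, Units.mul_inv, mul_one] at this
    rw [this, p1.h1]
  have c3 : (g : Module.End k M) * F₁ = F₁ * g := by
    nth_rewrite 2 [← c2]
    rw [mul_assoc, Units.inv_mul, mul_one]
  have c4 : Commute (g : Module.End k M) v := congrArg Units.val (hgU v hv)
  have c5 : Commute (g : Module.End k M) (v⁻¹ : GLM k M) := congrArg Units.val (hgU _ (inv_mem hv))
  exact (c4.mul_right c3).mul_right c5

end char

end Cfsg.Agent.Lib.Flav
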