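/-
Common opposites, components of the opposition graph, and orbits on root elements.
-/
import Cfsg.Agent.Lib.Flav.Q2

set_option autoImplicit false
set_option linter.unusedSectionVars false

namespace Cfsg.Agent.Lib.Flav

open Cfsg Cfsg.Agent.Lib.Root LinearMap

variable {k : Type*} [Field k] {M : Type*} [AddCommGroup M] [Module k M] [FiniteDimensional k M]
  {G : Subgroup (GLM k M)} {x y y' u v w t s a b d F F' u₁ u₂ : Module.End k M}

/-- conjugation of an endomorphism -/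
abbrev cE (g : GLM k M) (y : Module.End k M) : Module.End k M :=
  (g : Module.End k M) * y * (g⁻¹ : GLM k M)

/-- the group generated by the elements `1 + s`, `s ∈ S` -/
def genE (S : Set (Module.End k M)) : Subgroup (GLM k M) :=
  Subgroup.closure {g : GLM k M | (g : Module.End k M) - 1 ∈ S}

theorem un_mem_genE {S : Set (Module.End k M)} (h : s ∈ S) (hs : s * s = 0) : un s hs ∈ genE S :=
  Subgroup.subset_closure (by simpa using h)

theorem eq_un {g : GLM k M} (h : ((g : Module.End k M) - 1) * ((g : Module.End k M) - 1) = 0) :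
    g = un _ h := Units.ext (by simp)

theorem genE_le {S : Set (Module.End k M)} {H : Subgroup (GLM k M)} (hS : ∀ s ∈ S, s * s = 0)
    (h : ∀ s ∈ S, ∀ hs : s * s = 0, un s hs ∈ H) : genE S ≤ H :=
  (Subgroup.closure_le _).2 fun g hg => by
    rw [SetLike.mem_coe, eq_un (hS _ hg)]; exact h _ hg _

theorem genE_le_of_nz {S : Set (Module.End k M)} (hS : ∀ s ∈ S, Nz G s) : genE S ≤ G :=
  genE_le (fun s hs => (hS s hs).1) fun s hs _ => InG.mem (hS s hs).one_add

theorem genE_mono {S T : Set (Module.End k M)} (h : S ⊆ T) : genE S ≤ genE T :=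
  Subgroup.closure_mono fun _ hg => h hg

theorem comm_genE {S : Set (Module.End k M)} (h : ∀ s ∈ S, s * y = y * s) {g : GLM k M}
    (hg : g ∈ genE S) : (g : Module.End k M) * y = y * g := by
  induction hg using Subgroup.closure_induction with
  | mem g hg =>
    have := h _ hg
    rwa [sub_mul, mul_sub, one_mul, mul_one, sub_left_inj] at this
  | one => simp
  | mul a b _ _ ha hb => rw [Units.val_mul, mul_assoc, hb, ← mul_assoc, ha, mul_assoc]
  | inv a _ ha => exact (Commute.units_inv_left ha)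

theorem mem_centralizer_genE {S : Set (Module.End k M)} {g : GLM k M}
    (h : ∀ s ∈ S, (g : Module.End k M) * s = s * g) :
    g ∈ Subgroup.centralizer (genE S : Set (GLM k M)) := by
  intro a ha
  exact Units.ext (comm_genE (fun s hs => (h s hs).symm) ha)

theorem nz_conj {ρ : GLM k M} (hρ : ∀ a ∈ G, ρ * a * ρ⁻¹ ∈ G) (h : Nz G y) :
    Nz G (cE ρ y) := by
  refine ⟨?_, fun c => ?_⟩
  · rw [mul_assoc, mul_assoc, ← mul_assoc ((ρ⁻¹ : GLM k M) : Module.End k M), ← mul_assoc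
      ((ρ⁻¹ : GLM k M) : Module.End k M), Units.inv_mul, one_mul, h.sq', mul_zero]
  · obtain ⟨g, hg, e⟩ := h.2 c
    refine ⟨_, hρ g hg, ?_⟩
    rw [Units.val_mul, Units.val_mul, e, mul_add, add_mul, mul_one, Units.mul_inv, mul_smul_comm,
      smul_mul_assoc]

theorem conj_ne_zero (ρ : GLM k M) (h : y ≠ 0) : cE ρ y ≠ 0 := by
  intro e
  apply h
  rw [cE] at e
  rw [← conj_conj (Units.inv_mul ρ) y, e, mul_zero, zero_mul]

theorem nd_conj {ρ : GLM k M} (hρ : ∀ a ∈ G, ρ * a * ρ⁻¹ ∈ G) (h : Nd G y) :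
    Nd G (cE ρ y) :=
  h.of_rk_le (nz_conj hρ h.1) (conj_ne_zero ρ h.2.1)
    ((rk_mul_le_left _ _).trans (rk_mul_le_right _ _))

theorem op_conj (ρ : GLM k M) (h : Op x y) :
    Op (cE ρ x) (cE ρ y) := by
  rw [op_conj_iff (Units.mul_inv ρ) (Units.inv_mul ρ), conj_conj (Units.inv_mul ρ)]
  exact h

theorem exists_nd (hu : Nz G u) (h0 : u ≠ 0) : ∃ x, Nd G x := by
  classical
  have hex : ∃ n, ∃ x, Nz G x ∧ x ≠ 0 ∧ rk x = n := ⟨_, u, hu, h0, rfl⟩
  obtain ⟨x, h1, h2, h3⟩ := Nat.find_spec hex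
  exact ⟨x, h1, h2, fun y hy y0 => h3 ▸ Nat.find_min' hex ⟨y, hy, y0, rfl⟩⟩

section five
variable [Finite k] (hk5 : 5 ≤ Nat.card k)
include hk5

theorem co_step (hw : Nz G w) (hy : Nd G y) (h1 : Op y u₁) (h2 : Op y ((1 - w) * u₂ * (1 + w))) :
    ∃ c : k, Op ((1 + c • w) * y * (1 - c • w)) u₁ ∧ Op ((1 + c • w) * y * (1 - c • w)) u₂ := by
  by_contra hn
  have := quad_cover hk5 (a := y * (u₁ * y)) (b := y * ((u₁ * w - w * u₁) * y))
    (c := -(y * (w * (u₁ * w) * y))) (a' := y * (u₂ * y)) (b' := y * ((u₂ * w - w * u₂) * y))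
    (c' := -(y * (w * (u₂ * w) * y))) fun c => by
      rw [← sandwich_expand, ← sandwich_expand]
      by_contra h
      rw [not_or] at h
      refine hn ⟨c, ?_, ?_⟩
      · rw [op_conj_iff (hw.smul c).add_mul_sub (hw.smul c).sub_mul_add]; exact h.1
      · rw [op_conj_iff (hw.smul c).add_mul_sub (hw.smul c).sub_mul_add]; exact h.2
  rcases this with h | h
  · exact h1 h.1
  · apply h2
    have := sandwich_expand (1 : k) w y u₂
    rw [h.1, h.2.1, h.2.2] at this
    simpa using this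

theorem co_aux (hgen : G ≤ genE {w | Nz G w}) {g : GLM k M} (hg : g ∈ G) :
    ∀ u₂, Nd G y → Op y u₁ → Op (cE g y) u₂ →
      ∃ y', Nd G y' ∧ Op y' u₁ ∧ Op y' u₂ := by
  have key : ∀ (w : Module.End k M) (hw : Nz G w) (g : GLM k M), (∀ u₂, Nd G y → Op y u₁ →
      Op (cE g y) u₂ → ∃ y', Nd G y' ∧ Op y' u₁ ∧ Op y' u₂) → ∀ u₂, Nd G y →
      Op y u₁ → Op (cE (un w hw.1 * g) y) u₂ →
      ∃ y', Nd G y' ∧ Op y' u₁ ∧ Op y' u₂ := by
    intro w hw g ih u₂ hy h1 h2
    have e : cE (un w hw.1 * g) y = (1 + w) * cE g y * (1 - w) := by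
      simp only [cE, mul_inv_rev, Units.val_mul, coe_un, coe_un_inv, mul_assoc]
    rw [e, op_conj_iff hw.add_mul_sub hw.sub_mul_add] at h2
    obtain ⟨y', n, o1, o2⟩ := ih _ hy h1 h2
    obtain ⟨c, p1, p2⟩ := co_step hk5 hw n o1 o2
    exact ⟨_, n.conj (hw.smul c).one_add (hw.smul c).add_mul_sub, p1, p2⟩
  have hg' := hgen hg
  clear hg
  induction hg' using Subgroup.closure_induction_left with
  | one => intro u₂ hy h1 h2; exact ⟨y, hy, h1, by simpa [cE] using h2⟩
  | mul_left s hs g _ ih => rw [eq_un (Nz.sq hs)]; exact key _ hs g ih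
  | inv_mul_cancel s hs g _ ih =>
    have : s⁻¹ = un _ (Nz.neg hs).1 := by
      rw [inv_eq_iff_mul_eq_one]
      apply Units.ext
      have := Nz.add_mul_sub hs
      rw [add_sub_cancel] at this
      simpa [sub_eq_add_neg] using this
    rw [this]; exact key _ (Nz.neg hs) g ih

/-- the root subgroups form one class -/
def OneCl (G : Subgroup (GLM k M)) : Prop :=
  ∀ x y, Nd G x → Nd G y → ∃ g ∈ G, cE g y ∈ ES G x

theorem common_op (hgen : G ≤ genE {w | Nz G w}) (hcl : OneCl G) (hy : Nd G y) (h1 : Op y u₁)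
    (hy' : Nd G y') (h2 : Op y' u₂) : ∃ d, Nd G d ∧ Op d u₁ ∧ Op d u₂ := by
  obtain ⟨g, hg, e⟩ := hcl y' y hy' hy
  exact co_aux hk5 hgen hg u₂ hy h1 ((op_congr hy' e (conj_ne_zero g hy.2.1) u₂).2 h2)

variable (hk2 : ringChar k ≠ 2) (hk3 : Nat.card k ≠ 3)
include hk2 hk3

theorem comm_all {p : ℕ} [Fact p.Prime] [CharP k p] (hp : 3 ≤ p) (hG : NoUnip G)
    (hgen : G ≤ genE {w | Nz G w}) (hcl : OneCl G) (hx : Nd G x) (hF : Nd G F)
    (h : Pair x F) {g : GLM k M} (hg : g ∈ G) (hgU : ∀ v ∈ UU G x, g * v = v * g)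
    (hgF : (g : Module.End k M) * F = F * g) (hy : Nd G y) :
    (g : Module.End k M) * y = y * g := by
  obtain ⟨e, he, oe⟩ := exists_op hk2 hk3 hG hy
  obtain ⟨d, hd, o1, o2⟩ := common_op hk5 hgen hcl hF (h.symm.op hF.2.1) he (oe.symm hk2 hy he.1)
  obtain ⟨d', hd', n, pd⟩ := exists_partner hk2 hk3 hy hd (o2.symm hk2 hd hy.1)
  have o3 : Op x d' := ((op_congr hd hd' n.2.1 x).2 o1).symm hk2 n hx.1
  have := quad_cover hk5 (a := x * (d' * x)) (b := x * ((y * d' - d' * y) * x))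
    (c := x * (-(y * (d' * y)) * x)) (a' := g * d' - d' * g)
    (b' := g * (y * d' - d' * y) - (y * d' - d' * y) * g)
    (c' := g * -(y * (d' * y)) - -(y * (d' * y)) * g) fun c => by
      have n' := n.conj (hy.1.smul c).one_add (hy.1.smul c).add_mul_sub
      by_cases o : Op x ((1 + c • y) * d' * (1 - c • y))
      · right
        have := comm_of_op hk2 hk3 hp hx hF h hg hgU hgF n' o
        rw [conj_expand, ← sub_eq_zero] at this
        rw [← this]
        simp only [mul_add, add_mul, mul_smul_comm, smul_mul_assoc]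
        module
      · left
        rw [Op, not_not, conj_expand] at o
        rw [← o]
        simp only [mul_add, add_mul, mul_smul_comm, smul_mul_assoc]
  rcases this with h | h
  · exact absurd h.1 o3
  · have := h.2.2
    rw [pd.h1, mul_neg, neg_mul, sub_eq_zero, neg_inj] at this
    exact this

/-! ### components -/

omit hk5 hk2 hk3 in
/-- the component of `x` in the opposition graph -/
def Cm (G : Subgroup (GLM k M)) (x : Module.End k M) : Set (Module.End k M) :=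
  {y | Relation.ReflTransGen (fun a b => Nd G a ∧ Nd G b ∧ Op a b) x y}

omit hk5 hk2 hk3 in
theorem Cm.self : x ∈ Cm G x := Relation.ReflTransGen.refl

omit hk5 hk2 hk3 in
theorem Cm.nd (hx : Nd G x) (h : y ∈ Cm G x) : Nd G y := by
  induction h with
  | refl => exact hx
  | tail _ h _ => exact h.2.1

omit hk5 hk2 hk3 in
theorem Cm.of_op (hx : Nd G x) (h : y ∈ Cm G x) (hy' : Nd G y') (o : Op y y') : y' ∈ Cm G x :=
  Relation.ReflTransGen.tail h ⟨Cm.nd hx h, hy', o⟩

omit hk5 hk2 hk3 in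
theorem Cm.trans (h : y ∈ Cm G x) (h' : y' ∈ Cm G y) : y' ∈ Cm G x :=
  Relation.ReflTransGen.trans h h'

omit hk5 hk3 in
theorem Cm.symm (h : y ∈ Cm G x) : x ∈ Cm G y := by
  induction h with
  | refl => exact Cm.self
  | tail _ h ih =>
    exact Relation.ReflTransGen.head ⟨h.2.1, h.1, h.2.2.symm hk2 h.1 h.2.1.1⟩ ih

omit hk5 hk2 hk3 in
theorem Cm.conj_norm {ρ : GLM k M} (hρ : ∀ a ∈ G, ρ * a * ρ⁻¹ ∈ G) (h : y ∈ Cm G x) :
    cE ρ y ∈ Cm G (cE ρ x) := by
  induction h with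
  | refl => exact Cm.self
  | tail _ h ih =>
    exact Relation.ReflTransGen.tail ih ⟨nd_conj hρ h.1, nd_conj hρ h.2.1, op_conj ρ h.2.2⟩

omit hk5 in
theorem Cm.of_ES (hG : NoUnip G) (hx : Nd G x) (h : y ∈ Cm G x) (ht : t ∈ ES G y) (t0 : t ≠ 0) :
    t ∈ Cm G x := by
  have hy := Cm.nd hx h
  obtain ⟨e, he, o⟩ := exists_op hk2 hk3 hG hy
  have nt := hy.of_mem_ES ht t0
  exact Cm.of_op hx (Cm.of_op hx h he o) nt (((op_congr hy ht t0 e).2 o).symm hk2 nt he.1)

theorem Cm.conj (hG : NoUnip G) (hx : Nd G x) (h : y ∈ Cm G x) (hw : Nz G w) :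
    (1 + w) * y * (1 - w) ∈ Cm G x := by
  have hy := Cm.nd hx h
  obtain ⟨e, he, o⟩ := exists_op hk2 hk3 hG hy
  have o' := o.symm hk2 hy he.1
  have n := hy.conj hw.one_add hw.add_mul_sub
  obtain ⟨c, p1, p2⟩ := co_step hk5 (u₂ := (1 + w) * y * (1 - w)) hw he o'
    (by rw [conj_conj hw.sub_mul_add]; exact o')
  have n' := he.conj (hw.smul c).one_add (hw.smul c).add_mul_sub
  exact Cm.of_op hx (Cm.of_op hx h n' (p1.symm hk2 n' hy.1)) n p2

theorem Cm.comm (hG : NoUnip G) (hx : Nd G x) (h : y ∈ Cm G x) (hy' : Nd G y')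
    (h' : y' ∉ Cm G x) : y * y' = y' * y := by
  have hy := Cm.nd hx h
  have e1 : y * (y' * y) = 0 := by
    by_contra o; exact h' (Cm.of_op hx h hy' o)
  have e2 : y' * (y * y') = 0 := by
    by_contra o; exact h' (Cm.of_op hx h hy' (Op.symm hk2 o hy' hy.1))
  by_contra hne
  have nw := (comm_struct hy hy' e1 e2 (sub_ne_zero.2 hne)).1
  obtain ⟨e, he, o⟩ := exists_op hk2 hk3 hG nw
  have o' := o.symm hk2 nw he.1
  have key : ∀ a b : Module.End k M, Nd G a → Nd G b → b * (a * b) = 0 → Op e (a * b - b * a) →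
      e ∈ Cm G a := by
    intro a b ha hb hab oe
    by_cases oa : Op e a
    · exact Cm.of_op ha Cm.self he (oa.symm hk2 he ha.1)
    · have m := Cm.conj hk5 hk2 hk3 hG ha Cm.self hb.1
      refine Cm.of_op ha m he (Op.symm hk2 ?_ he (Cm.nd ha m).1)
      rw [Op, not_not] at oa
      intro e3
      apply oe
      simp only [mul_sub, sub_mul, mul_add, add_mul, mul_one, one_mul, mul_assoc] at e3 ⊢
      rw [← mul_assoc a b e, ← mul_assoc b (a * b) e, hab, oa] at e3
      simp only [zero_mul, mul_zero, add_zero, zero_add, mul_assoc] at e3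
      rw [← neg_eq_zero, ← e3]; abel
  have m1 := key y y' hy hy' e2 o'
  have m2 := key y' y hy' hy e1 (by
    intro e3; apply o'
    rw [← neg_sub, neg_mul, mul_neg, e3, neg_zero])
  exact h' (Cm.trans (Cm.trans h m1) (Cm.symm hk2 m2))

omit hk5 in
theorem Cm.cls (hG : NoUnip G) (hx : Nd G x) (h : y ∈ Cm G x) :
    ∃ g ∈ genE (Cm G x), cE g y ∈ ES G x := by
  induction h with
  | refl => exact ⟨1, one_mem _, by simpa [cE] using self_mem_ES hx.1⟩
  | @tail b c hb h ih =>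
    obtain ⟨g, hg, e⟩ := ih
    have hc : c ∈ Cm G x := Relation.ReflTransGen.tail hb h
    obtain ⟨F, hF, n, p⟩ := exists_partner hk2 hk3 h.2.1 h.1 (h.2.2.symm hk2 h.1 h.2.1.1)
    have mF := Cm.of_ES hk2 hk3 hG hx hb hF n.2.1
    have hgG : g ∈ G := genE_le_of_nz (fun s hs => (Cm.nd hx hs).1) hg
    refine ⟨g * ((un c h.2.1.1.1)⁻¹ * un F n.1.1), mul_mem hg (mul_mem (inv_mem
      (un_mem_genE hc _)) (un_mem_genE mF _)), ?_⟩
    have e1 : (1 - c) * (1 + F) * c * ((1 - F) * (1 + c)) = -F := by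
      rw [mul_assoc (1 - c), mul_assoc (1 - c), ← mul_assoc _ (1 - F), pair_conj p.h1 p.h2,
        neg_mul, mul_neg, ← mul_assoc, conj_conj h.2.1.1.sub_mul_add]
    have e2 := mem_ES_conj ((ES G b).neg_mem hF) (inG_of_mem hgG) (Units.mul_inv g)
    rw [hx.ES_eq e (conj_ne_zero g h.1.2.1), ← e1] at e2
    simpa only [cE, mul_inv_rev, inv_inv, Units.val_mul, coe_un, coe_un_inv, mul_assoc] using e2

theorem Cm.decomp (hG : NoUnip G) (hx : Nd G x) (hu : Nz G u) :
    ∃ u', ∃ h : u' ∈ ES G u, un u' (ES.nz h).1 ∈ genE (Cm G x) ∧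
      ∀ t ∈ Cm G x, (u - u') * t = t * (u - u') := by
  induction hn : rk u using Nat.strong_induction_on generalizing u with
  | _ n ih =>
  by_cases h : ∀ y, Nd G y → ¬ Op y u
  · refine ⟨0, zero_mem _, ?_, fun t ht => ?_⟩
    · convert (genE (Cm G x)).one_mem; exact Units.ext (by simp)
    · rw [sub_zero]; exact comm_of_forall_not_op hk2 hk3 hG hu h (Cm.nd hx ht)
  push Not at h
  obtain ⟨y, hy, o⟩ := h
  obtain ⟨a, ha, na, lt⟩ := exists_root_part hk2 hk3 hy hu o
  have m := (ES G u).sub_mem (self_mem_ES hu) ha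
  obtain ⟨u', h1, h2, h3⟩ := ih _ (hn ▸ lt) (ES.nz m) rfl
  have h1' := ES_le_of_mem m h1
  by_cases hc : a ∈ Cm G x
  · refine ⟨a + u', add_mem ha h1', ?_, fun t ht => ?_⟩
    · convert mul_mem (un_mem_genE hc na.1.1) h2
      apply Units.ext
      simp only [Units.val_mul, coe_un, mul_add, add_mul, mul_one, one_mul, ES.mul ha h1']
      abel
    · rw [← sub_sub]; exact h3 t ht
  · refine ⟨u', h1', h2, fun t ht => ?_⟩
    have e : u - u' = (u - a - u') + a := by abel
    rw [e, add_mul, mul_add, h3 t ht, Cm.comm hk5 hk2 hk3 hG hx ht na hc]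

end five

end Cfsg.Agent.Lib.Flav
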