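/-
At most two classes of root elements; fixed partners of a coprime operator group.
-/
import Cfsg.Agent.Lib.Flav.Q3
import Cfsg.Agent.Lib.Core.Coprime

set_option autoImplicit false
set_option linter.unusedSectionVars false

namespace Cfsg.Agent.Lib.Flav

open Cfsg Cfsg.Agent.Lib.Root LinearMap

theorem card_le_two_mul {α β : Type*} [Neg α] [DecidableEq β] (S : Finset α) (f : α → β)
    (h : ∀ a ∈ S, ∀ b ∈ S, f a = f b → a = b ∨ a = -b) : S.card ≤ 2 * (S.image f).card := by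
  classical
  refine Finset.card_le_mul_card_image S 2 fun b hb => ?_
  obtain ⟨a, ha, rfl⟩ := Finset.mem_image.1 hb
  refine (Finset.card_le_card (t := {a, -a}) fun c hc => ?_).trans Finset.card_le_two
  rw [Finset.mem_filter] at hc
  simpa using h c hc.1 a ha hc.2

/-- A finite Jordan division subalgebra has no anticommuting pair. -/
theorem jordan_anticomm {k A : Type*} [Field k] [Finite k] [Ring A] [Algebra k A] [Finite A]
    (hk2 : ringChar k ≠ 2) (T : Submodule k A) (J1 : ∀ a ∈ T, ∀ b ∈ T, a * b + b * a ∈ T)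
    (J2 : ∀ a ∈ T, ∀ b ∈ T, a * b = 0 → a = 0 ∨ b = 0) {α β : A} (hα : α ∈ T) (hβ : β ∈ T)
    (h : α * β + β * α = 0) : α = 0 ∨ β = 0 := by
  classical
  have h2 : (2 : k) ≠ 0 := Ring.two_ne_zero hk2
  have J3 : ∀ a ∈ T, ∀ b ∈ T, Commute a b → a * b ∈ T := by
    intro a ha b hb hab
    have := T.smul_mem (2 : k)⁻¹ (J1 a ha b hb)
    rwa [← hab.eq, ← two_smul k, smul_smul, inv_mul_cancel₀ h2, one_smul] at this
  by_contra hne
  rw [not_or] at hne
  have hβα : β * α = -(α * β) := by rw [eq_neg_iff_add_eq_zero, add_comm, h]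
  let K : Submodule k A :=
    { carrier := {c | c ∈ T ∧ Commute c α ∧ Commute c β ∧
        ∀ l ∈ T, Commute l α → Commute l β → Commute c l}
      zero_mem' := ⟨zero_mem _, Commute.zero_left _, Commute.zero_left _,
        fun _ _ _ _ => Commute.zero_left _⟩
      add_mem' := fun {a b} ha hb => ⟨add_mem ha.1 hb.1, ha.2.1.add_left hb.2.1,
        ha.2.2.1.add_left hb.2.2.1, fun l h1 h2 h3 =>
          (ha.2.2.2 l h1 h2 h3).add_left (hb.2.2.2 l h1 h2 h3)⟩
      smul_mem' := fun c a ha => ⟨T.smul_mem c ha.1, ha.2.1.smul_left c, ha.2.2.1.smul_left c,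
        fun l h1 h2 h3 => (ha.2.2.2 l h1 h2 h3).smul_left c⟩ }
  have Kc : ∀ a ∈ K, ∀ b ∈ K, Commute a b := fun a ha b hb => ha.2.2.2 b hb.1 hb.2.1 hb.2.2.1
  have Km : ∀ a ∈ K, ∀ b ∈ K, a * b ∈ K := fun a ha b hb =>
    ⟨J3 a ha.1 b hb.1 (Kc a ha b hb), ha.2.1.mul_left hb.2.1, ha.2.2.1.mul_left hb.2.2.1,
      fun l h1 h2 h3 => (ha.2.2.2 l h1 h2 h3).mul_left (hb.2.2.2 l h1 h2 h3)⟩
  have Kα : α * α ∈ K := ⟨J3 α hα α hα rfl, (Commute.refl α).mul_left rfl, by
      change α * α * β = β * (α * α)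
      rw [← mul_assoc, hβα, neg_mul, mul_assoc α β, hβα, mul_neg, neg_neg, mul_assoc],
    fun l _ h2 _ => h2.symm.mul_left h2.symm⟩
  have Kβ : β * β ∈ K := ⟨J3 β hβ β hβ rfl, by
      change β * β * α = α * (β * β)
      rw [mul_assoc, hβα, mul_neg, ← mul_assoc, hβα, neg_mul, neg_neg, mul_assoc],
    (Commute.refl β).mul_left rfl, fun l _ _ h3 => h3.symm.mul_left h3.symm⟩
  have sq : ∀ a ∈ K, ∀ b ∈ K, a * a = b * b → a = b ∨ a = -b := by
    intro a ha b hb e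
    have := J2 _ (T.sub_mem ha.1 hb.1) _ (T.add_mem ha.1 hb.1) (by
      rw [sub_mul, mul_add, mul_add, (Kc a ha b hb).eq, e]; abel)
    rwa [sub_eq_zero, ← eq_neg_iff_add_eq_zero] at this
  let S : Finset A := (Set.toFinite (K : Set A)).toFinset
  have mS : ∀ a, a ∈ S ↔ a ∈ K := fun a => Set.Finite.mem_toFinset _
  have odd : S.card % 2 = 1 := by
    letI := Fintype.ofFinite k
    have e : S.card = Nat.card K := by
      rw [← Set.ncard_eq_toFinset_card]; rfl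
    rw [e, Module.natCard_eq_pow_finrank (K := k), Nat.card_eq_fintype_card, Nat.pow_mod,
      FiniteField.odd_card_of_char_ne_two hk2, one_pow]
    rfl
  have c1 := card_le_two_mul S (fun a => a * a) fun a ha b hb => sq a ((mS a).1 ha) b ((mS b).1 hb)
  have c2 := card_le_two_mul S (fun a => a * a * (α * α) + β * β) fun a ha b hb e => by
    have ha' := (mS a).1 ha
    have hb' := (mS b).1 hb
    refine sq a ha' b hb' (sub_eq_zero.1 ((J2 _ (T.sub_mem (Km a ha' a ha').1 (Km b hb' b hb').1)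
      _ Kα.1 ?_).resolve_right fun e' => hne.1 ?_))
    · rw [sub_mul, add_right_cancel e, sub_self]
    · exact (J2 α hα α hα e').elim id id
  have hnd : ¬ Disjoint (S.image fun a => a * a) (S.image fun a => a * a * (α * α) + β * β) := by
    intro hd
    have := Finset.card_le_card (s := (S.image fun a => a * a) ∪
      (S.image fun a => a * a * (α * α) + β * β)) (t := S) (by
      intro c hc
      rcases Finset.mem_union.1 hc with hc | hc
      · obtain ⟨a, ha, rfl⟩ := Finset.mem_image.1 hc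
        exact (mS _).2 (Km a ((mS a).1 ha) a ((mS a).1 ha))
      · obtain ⟨a, ha, rfl⟩ := Finset.mem_image.1 hc
        exact (mS _).2 (K.add_mem (Km _ (Km a ((mS a).1 ha) a ((mS a).1 ha)) _ Kα) Kβ))
    rw [Finset.card_union_of_disjoint hd] at this
    omega
  obtain ⟨c, m1, m2⟩ := Finset.not_disjoint_iff.1 hnd
  obtain ⟨a, ha, rfl⟩ := Finset.mem_image.1 m1
  obtain ⟨b, hb, e⟩ := Finset.mem_image.1 m2
  have ha' := (mS a).1 ha
  have hb' := (mS b).1 hb
  have mT : b * α + β ∈ T := T.add_mem (J3 b hb'.1 α hα hb'.2.1) hβ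
  have ca : Commute a (b * α + β) := ((Kc a ha' b hb').mul_right ha'.2.1).add_right ha'.2.2.1
  have e2 : (b * α + β) * (b * α + β) = b * b * (α * α) + β * β := by
    have f1 : α * b = b * α := hb'.2.1.symm
    have f2 : β * (b * α) = -(b * α * β) := by
      rw [← mul_assoc, ← hb'.2.2.1.eq, mul_assoc, hβα, mul_neg, mul_assoc]
    rw [mul_add, add_mul, add_mul, f2, mul_assoc b α (b * α), ← mul_assoc α b, f1]
    noncomm_ring
  have key : Commute α β := by
    have := J2 _ (T.sub_mem ha'.1 mT) _ (T.add_mem ha'.1 mT) (by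
      rw [sub_mul, mul_add a, mul_add _ a, ← ca.eq, e2, e]; abel)
    have cb : Commute α (b * α) := hb'.2.1.symm.mul_right rfl
    rcases this with h | h
    · have : β = a - b * α := by rw [sub_eq_zero.1 h]; abel
      rw [this]; exact ha'.2.1.symm.sub_right cb
    · have : β = -a - b * α := by rw [eq_neg_of_add_eq_zero_left h]; abel
      rw [this]; exact ha'.2.1.symm.neg_right.sub_right cb
  rw [← key.eq, ← two_smul k, smul_eq_zero] at h
  exact (J2 α hα β hβ (h.resolve_left h2)).elim hne.1 hne.2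

theorem exists_fixed {Γ α : Type*} [Group Γ] [MulAction Γ α] {r : ℕ} [Fact r.Prime]
    {R : Subgroup Γ} (hR : IsPGroup r R) (S : Set α) (hinv : ∀ ρ ∈ R, ∀ a ∈ S, ρ • a ∈ S)
    (hc : ¬ r ∣ Nat.card S) : ∃ a ∈ S, ∀ ρ ∈ R, ρ • a = a := by
  let T : SubMulAction R α := ⟨S, fun ρ {a} ha => hinv ρ ρ.2 a ha⟩
  obtain ⟨a, ha⟩ := hR.nonempty_fixed_point_of_prime_not_dvd_card T hc
  exact ⟨a, a.2, fun ρ hρ => congrArg Subtype.val (ha ⟨ρ, hρ⟩)⟩

theorem card_orbit_dvd' {Γ α : Type*} [Group Γ] [MulAction Γ α] (H : Subgroup Γ) (x : α) :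
    Nat.card {y | ∃ g ∈ H, g • x = y} ∣ Nat.card H := by
  have e : {y | ∃ g ∈ H, g • x = y} = MulAction.orbit H x := by
    ext y
    exact ⟨fun ⟨g, hg, e⟩ => ⟨⟨g, hg⟩, e⟩, fun ⟨g, e⟩ => ⟨g, g.2, e⟩⟩
  rw [e, Nat.card_coe_set_eq, ← MulAction.index_stabilizer]
  exact Subgroup.index_dvd_card _

variable {k : Type*} [Field k] {M : Type*} [AddCommGroup M] [Module k M] [FiniteDimensional k M]
  {G : Subgroup (GLM k M)} {x y y' u v w t s a b d F F' u₁ u₂ : Module.End k M}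

/-- conjugation action of the linear group on endomorphisms -/
@[reducible] def cAct (k M : Type*) [Field k] [AddCommGroup M] [Module k M] :
    MulAction (GLM k M) (Module.End k M) where
  smul g y := cE g y
  one_smul y := by change cE 1 y = y; simp [cE]
  mul_smul g h y := by
    change cE (g * h) y = cE g (cE h y)
    simp only [cE, mul_inv_rev, Units.val_mul, mul_assoc]

theorem cE_mul (g h : GLM k M) : cE (g * h) y = cE g (cE h y) := (cAct k M).mul_smul g h y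

theorem cE_one : cE (1 : GLM k M) y = y := (cAct k M).one_smul y

theorem cE_eq_iff {g : GLM k M} : cE g y = y ↔ (g : Module.End k M) * y = y * g := by
  rw [cE, Units.mul_inv_eq_iff_eq_mul]

theorem card_orbit_dvd (H : Subgroup (GLM k M)) (x : Module.End k M) :
    Nat.card {y | ∃ g ∈ H, cE g x = y} ∣ Nat.card H :=
  @card_orbit_dvd' _ _ _ (cAct k M) H x

theorem finite_end [Finite M] : Finite (Module.End k M) :=
  Finite.of_injective (fun f : Module.End k M => (f : M → M)) DFunLike.coe_injective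

variable (hk2 : ringChar k ≠ 2) (hk3 : Nat.card k ≠ 3)
include hk2 hk3

theorem sq_inj [Finite k] [Finite M] (hs : Nd G s) (hF : Nd G F) (h : Pair s F) (ha : a ∈ ES G s)
    (hb : b ∈ ES G s) (e : a * (F * a) = b * (F * b)) : a = b ∨ a = -b := by
  haveI : Finite (Module.End k M) := finite_end
  have nz : ∀ c ∈ ES G s, ∀ d ∈ ES G s, c * (F * d) = 0 → c = 0 ∨ d = 0 := by
    intro c hc d hd e
    by_contra hne
    rw [not_or] at hne
    have e1 : s * (F * d) = 0 := mul_eq_zero_of_ker_le (hs.ker_of_mem_ES hc hne.1).le e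
    rw [h.left_of_range (ES.range_le hd)] at e1
    exact hne.2 e1
  have sq : ∀ c ∈ ES G s, c * (F * c) ∈ ES G s := by
    intro c hc
    by_cases c0 : c = 0
    · simp [c0]
    rw [← hs.ES_eq hc c0]
    exact xyx_mem hk2 hk3 (hs.of_mem_ES hc c0) hF.1
  have inj : ∀ c ∈ ES G s, c * F = 0 → c = 0 := by
    intro c hc e
    rw [← h.right_of_ker (ES.ker_le hc), ← mul_assoc, e, zero_mul]
  have := jordan_anticomm hk2 ((ES G s).map (LinearMap.mulRight k F)) (by
    rintro _ ⟨c, hc, rfl⟩ _ ⟨d, hd, rfl⟩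
    refine ⟨_, (ES G s).sub_mem ((ES G s).sub_mem (sq _ ((ES G s).add_mem hc hd)) (sq c hc))
      (sq d hd), ?_⟩
    simp only [mulRight_apply]; noncomm_ring) (by
    rintro _ ⟨c, hc, rfl⟩ _ ⟨d, hd, rfl⟩ e
    simp only [mulRight_apply] at e ⊢
    have e' : c * (F * d) = 0 := by
      rw [← h.right_of_ker (ES.ker_le hd), ← mul_assoc d, ← mul_assoc F, ← mul_assoc c,
        ← mul_assoc c, e, zero_mul]
    rcases nz c hc d hd e' with h | h <;> simp [h])
    (α := (a - b) * F) (β := (a + b) * F) ⟨_, (ES G s).sub_mem ha hb, rfl⟩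
    ⟨_, (ES G s).add_mem ha hb, rfl⟩ (by
      have : (a - b) * F * ((a + b) * F) + (a + b) * F * ((a - b) * F) =
        2 * ((a * (F * a) - b * (F * b)) * F) := by noncomm_ring
      rw [this, e, sub_self, zero_mul, mul_zero])
  rcases this with h | h
  · exact Or.inl (sub_eq_zero.1 (inj _ ((ES G s).sub_mem ha hb) h))
  · exact Or.inr (eq_neg_of_add_eq_zero_left (inj _ ((ES G s).add_mem ha hb) h))

theorem conj_sq (hs : Nd G s) (hF : Nd G F) (h : Pair s F) (ht : t ∈ ES G s) (t0 : t ≠ 0) :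
    ∃ g ∈ G, cE g s = t * (F * t) := by
  have nt := hs.of_mem_ES ht t0
  obtain ⟨F₁, hF₁, n1, p1⟩ := exists_partner hk2 hk3 nt hF ((op_congr hs ht t0 F).2 (h.op hs.2.1))
  have m : F ∈ ES G F₁ := by rw [hF.ES_eq hF₁ n1.2.1]; exact self_mem_ES hF.1
  have e1 := weyl_conj p1 n1.1.1 m
  have e2 := weyl_conj h hF.1.1 (self_mem_ES hF.1)
  rw [h.h1] at e2
  let g1 := (un F₁ n1.1.1)⁻¹ * un t nt.1.1
  let g2 := (un F hF.1.1)⁻¹ * un s hs.1.1
  have f1 : cE g1 F = -(t * (F * t)) := by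
    rw [← e1]; simp only [g1, cE, mul_inv_rev, inv_inv, Units.val_mul, coe_un, coe_un_inv]
  have f2 : cE g2 F = -s := by
    rw [← e2]; simp only [g2, cE, mul_inv_rev, inv_inv, Units.val_mul, coe_un, coe_un_inv]
  refine ⟨g1 * g2⁻¹, mul_mem (mul_mem (inv_mem (InG.mem n1.1.one_add)) (InG.mem nt.1.one_add))
    (inv_mem (mul_mem (inv_mem (InG.mem hF.1.one_add)) (InG.mem hs.1.one_add))), ?_⟩
  have : s = cE g2 (-F) := by rw [cE, mul_neg, neg_mul, ← cE, f2, neg_neg]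
  rw [this, ← cE_mul, inv_mul_cancel_right, cE, mul_neg, neg_mul, ← cE, f1, neg_neg]

theorem three_conj [Finite k] [Finite M] (hG : NoUnip G) (hcl : OneCl G) {x₁ x₂ x₃ : Module.End k M}
    (h1 : Nd G x₁) (h2 : Nd G x₂) (h3 : Nd G x₃) :
    (∃ g ∈ G, cE g x₁ = x₂) ∨ (∃ g ∈ G, cE g x₁ = x₃) ∨ ∃ g ∈ G, cE g x₂ = x₃ := by
  classical
  haveI : Finite (Module.End k M) := finite_end
  let E : Finset (Module.End k M) := (Set.toFinite ((ES G x₁ : Set _) \ {0})).toFinset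
  have mE : ∀ a, a ∈ E ↔ a ∈ ES G x₁ ∧ a ≠ 0 := fun a => Set.Finite.mem_toFinset _
  let O : Module.End k M → Finset (Module.End k M) := fun z => E.filter fun a => ∃ g ∈ G, cE g z = a
  have big : ∀ z, Nd G z → E.card ≤ 2 * (O z).card := by
    intro z hz
    obtain ⟨g, hg, e⟩ := hcl x₁ z h1 hz
    have s0 := conj_ne_zero g hz.2.1
    have hs := h1.of_mem_ES e s0
    obtain ⟨y, hy, o⟩ := exists_op hk2 hk3 hG hs
    obtain ⟨F, -, hF, p⟩ := exists_partner hk2 hk3 hs hy o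
    have ee := h1.ES_eq e s0
    refine (card_le_two_mul E (fun a => a * (F * a)) fun a ha b hb =>
      sq_inj hk2 hk3 hs hF p (ee ▸ ((mE a).1 ha).1) (ee ▸ ((mE b).1 hb).1)).trans
      (Nat.mul_le_mul_left 2 (Finset.card_le_card fun c hc => ?_))
    obtain ⟨a, ha, rfl⟩ := Finset.mem_image.1 hc
    obtain ⟨m, a0⟩ := (mE a).1 ha
    obtain ⟨g', hg', e'⟩ := conj_sq hk2 hk3 hs hF p (ee ▸ m) a0
    refine Finset.mem_filter.2 ⟨(mE _).2 ⟨?_, e' ▸ conj_ne_zero g' s0⟩,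
      g' * g, mul_mem hg' hg, by rw [cE_mul, e']⟩
    rw [← h1.ES_eq m a0]
    exact xyx_mem hk2 hk3 (h1.of_mem_ES m a0) hF.1
  have dj : ∀ z z', ¬ (∃ g ∈ G, cE g z = z') → Disjoint (O z) (O z') := by
    intro z z' hn
    rw [Finset.disjoint_left]
    intro a ha ha'
    obtain ⟨g, hg, e⟩ := (Finset.mem_filter.1 ha).2
    obtain ⟨g', hg', e'⟩ := (Finset.mem_filter.1 ha').2
    exact hn ⟨g'⁻¹ * g, mul_mem (inv_mem hg') hg, by
      rw [cE_mul, e, ← e', ← cE_mul, inv_mul_cancel, cE_one]⟩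
  by_contra hn
  rw [not_or, not_or] at hn
  have c1 := Finset.card_le_card (s := O x₁ ∪ O x₂ ∪ O x₃) (t := E)
    (Finset.union_subset (Finset.union_subset (Finset.filter_subset _ _) (Finset.filter_subset _ _))
      (Finset.filter_subset _ _))
  rw [Finset.card_union_of_disjoint (Finset.disjoint_union_left.2 ⟨dj _ _ hn.2.1, dj _ _ hn.2.2⟩),
    Finset.card_union_of_disjoint (dj _ _ hn.1)] at c1
  have := big _ h1
  have := big _ h2
  have := big _ h3
  have : 0 < E.card := Finset.card_pos.2 ⟨x₁, (mE _).2 ⟨self_mem_ES h1.1, h1.2.1⟩⟩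
  omega

theorem exists_fixed_pair [Finite k] [Finite M] {p : ℕ} [Fact p.Prime] [CharP k p] (hp : 3 ≤ p)
    (hG : NoUnip G) (hcl : OneCl G) (hy : Nd G y) {r : ℕ} [hr : Fact r.Prime]
    {R : Subgroup (GLM k M)} (hR : IsPGroup r R) (hc : ¬ r ∣ Nat.card G)
    (hRG : R ≤ Subgroup.normalizer (G : Set (GLM k M))) :
    ∃ x F, Nd G x ∧ Nd G F ∧ Pair x F ∧ (∀ ρ ∈ R, cE ρ x = x) ∧ ∀ ρ ∈ R, cE ρ F = F := by
  haveI : Finite (Module.End k M) := finite_end
  letI := cAct k M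
  have hρ : ∀ ρ ∈ R, ∀ a ∈ G, ρ * a * ρ⁻¹ ∈ G := fun ρ hρ a ha =>
    Core.conj_mem_of_mem_normalizer (hRG hρ) ha
  have r2 : r ≠ 2 := by
    rintro rfl
    obtain ⟨y', hy', o⟩ := exists_op hk2 hk3 hG hy
    obtain ⟨F, -, hF, pr⟩ := exists_partner hk2 hk3 hy hy' o
    apply hc
    have h1 : orderOf (zz hy.1.1 hF.1.1) = 2 := by
      refine orderOf_eq_prime (by rw [pow_two, zz_mul_self _ _ pr]) fun e => ?_
      have := zz_mul_x hy.1.1 hF.1.1 pr
      rw [e, Units.val_one, one_mul, eq_neg_iff_add_eq_zero, ← two_smul k, smul_eq_zero] at this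
      exact this.elim (Ring.two_ne_zero hk2) hy.2.1
    rw [← h1]
    exact Subgroup.orderOf_dvd_natCard G (zz_mem hy.1 hF.1)
  have step : ∀ σ ∈ R, (∃ g ∈ G, cE g y = cE σ y) → ∀ n : ℕ, ∃ g ∈ G, cE g y = cE (σ ^ n) y := by
    rintro σ hσ ⟨g, hg, e⟩ n
    induction n with
    | zero => exact ⟨1, one_mem _, by rw [pow_zero]⟩
    | succ n ih =>
      obtain ⟨g', hg', e'⟩ := ih
      refine ⟨σ * g' * σ⁻¹ * g, mul_mem (hρ σ hσ g' hg') hg, ?_⟩
      rw [cE_mul, e, ← cE_mul, inv_mul_cancel_right, cE_mul, e', ← cE_mul, pow_succ']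
  have orb : ∀ ρ ∈ R, ∃ g ∈ G, cE g y = cE ρ y := by
    intro ρ hρ'
    rcases three_conj hk2 hk3 hG hcl hy (nd_conj (hρ ρ hρ') hy)
      (nd_conj (hρ _ (mul_mem hρ' hρ')) hy) with h | h | ⟨g, hg, e⟩
    · exact h
    · obtain ⟨n, hn⟩ := Core.pow_eq_one_of_isPGroup hR hρ'
      obtain ⟨j, hj⟩ : Odd (r ^ n) := (hr.out.odd_of_ne_two r2).pow
      obtain ⟨g, hg, e⟩ := step _ (mul_mem hρ' hρ') h (j + 1)
      refine ⟨g, hg, ?_⟩
      rw [e, ← pow_two, ← pow_mul, show 2 * (j + 1) = r ^ n + 1 by omega, pow_succ, hn, one_mul]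
    · refine ⟨ρ⁻¹ * g * ρ⁻¹⁻¹, hρ _ (inv_mem hρ') g hg, ?_⟩
      rw [inv_inv, cE_mul, cE_mul, e, ← cE_mul, inv_mul_cancel_left]
  obtain ⟨x, ⟨g, hg, rfl⟩, hx⟩ := exists_fixed hR {z | ∃ g ∈ G, cE g y = z} (by
    rintro ρ hρ' _ ⟨g, hg, rfl⟩
    obtain ⟨g', hg', e⟩ := orb ρ hρ'
    refine ⟨ρ * g * ρ⁻¹ * g', mul_mem (hρ ρ hρ' g hg) hg', ?_⟩
    change _ = cE ρ (cE g y)
    rw [cE_mul, e, ← cE_mul, inv_mul_cancel_right, cE_mul])
    fun h => hc (h.trans (card_orbit_dvd G y))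
  have nx : Nd G (cE g y) := hy.conj (inG_of_mem hg) (Units.mul_inv g)
  obtain ⟨y', hy', o⟩ := exists_op hk2 hk3 hG nx
  obtain ⟨F, -, hF, pr⟩ := exists_partner hk2 hk3 nx hy' o
  have e : {F' | Nd G F' ∧ Pair (cE g y) F'} = {z | ∃ v ∈ UU G (cE g y), cE v F = z} := by
    ext F'
    refine ⟨fun h => pair_trans hk2 hk3 hp nx hF h.1 pr h.2, ?_⟩
    rintro ⟨v, hv, rfl⟩
    refine ⟨hF.conj (inG_of_mem hv.1) (Units.mul_inv v), ?_⟩
    have := pr.conj (a := (v : Module.End k M)) (Units.inv_mul v)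
    rwa [← cE, cE_eq_iff.2 (UU.comm hv)] at this
  obtain ⟨F', ⟨n', p'⟩, hF'⟩ := exists_fixed hR {F' | Nd G F' ∧ Pair (cE g y) F'} (by
    rintro ρ hρ' F' ⟨n', p'⟩
    refine ⟨nd_conj (hρ ρ hρ') n', ?_⟩
    have := p'.conj (a := (ρ : Module.End k M)) (Units.inv_mul ρ)
    rwa [show (ρ : Module.End k M) * cE g y * (ρ⁻¹ : GLM k M) = cE g y from hx ρ hρ'] at this)
    fun h => hc (by
      rw [e] at h
      exact (h.trans (card_orbit_dvd _ F)).trans (Subgroup.card_dvd_of_le UU_le))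
  exact ⟨_, F', nx, n', p', hx, hF'⟩

end Cfsg.Agent.Lib.Flav
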