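/-
A `p`-subgroup invariant under `R C_G(R)` contains no quadratic element (`p > 3`, `O_p(G) = 1`).
-/
import Cfsg.Agent.Lib.Flav.Q4
import Cfsg.Agent.Lib.Flav.CharP

set_option autoImplicit false
set_option linter.unusedSectionVars false

namespace Cfsg.Agent.Lib.Flav

open Cfsg Cfsg.Agent.Lib.Root LinearMap Subgroup Cfsg.Agent.Lib.Core Cfsg.Agent.Lib.Glaub

variable {p : ℕ} [hp : Fact p.Prime] {M : Type*} [AddCommGroup M] [Module (ZMod p) M] [Finite M]
  {G : Subgroup (GLM (ZMod p) M)} {x y u F : Module.End (ZMod p) M}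

theorem finite_glm : Finite (GLM (ZMod p) M) :=
  haveI : Finite (Module.End (ZMod p) M) := finite_end
  inferInstance

attribute [local instance] finite_glm

theorem nz_of_mem {g : GLM (ZMod p) M} (hg : g ∈ G)
    (h : ((g : Module.End (ZMod p) M) - 1) * ((g : Module.End (ZMod p) M) - 1) = 0) :
    Nz G ((g : Module.End (ZMod p) M) - 1) := by
  refine ⟨h, fun c => ⟨g ^ c.val, pow_mem hg _, ?_⟩⟩
  have : ∀ n : ℕ, (g : Module.End (ZMod p) M) ^ n =
      1 + (n : ZMod p) • ((g : Module.End (ZMod p) M) - 1) := by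
    intro n
    induction n with
    | zero => simp
    | succ n ih =>
      have e : (g : Module.End (ZMod p) M) = 1 + ((g : Module.End (ZMod p) M) - 1) := by abel
      rw [pow_succ, ih]
      nth_rewrite 2 [e]
      rw [add_mul, one_mul, mul_add, mul_one, smul_mul_assoc, h, Nat.cast_succ]
      module
  rw [Units.val_pow_eq_pow_val, this, ZMod.natCast_zmod_val]

theorem pow_eq_one_of_nilp {g : GLM (ZMod p) M} {n : ℕ}
    (h : ((g : Module.End (ZMod p) M) - 1) ^ n = 0) : g ^ p ^ n = 1 := by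
  rcases subsingleton_or_nontrivial M with hM | hM
  · exact Subsingleton.elim _ _
  haveI : CharP (Module.End (ZMod p) M) p := charP_of_injective_algebraMap
    (FaithfulSMul.algebraMap_injective (ZMod p) (Module.End (ZMod p) M)) p
  apply Units.ext
  have e : (g : Module.End (ZMod p) M) = 1 + ((g : Module.End (ZMod p) M) - 1) := by abel
  rw [Units.val_pow_eq_pow_val, e, add_pow_char_pow_of_commute _ _ (Commute.one_left _), one_pow,
    pow_eq_zero_of_le (Nat.lt_pow_self hp.out.one_lt).le h, add_zero, Units.val_one]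

theorem un_pow (h : u * u = 0) : un u h ^ p ^ 2 = 1 :=
  pow_eq_one_of_nilp (by simpa [pow_two] using h)

theorem noUnip_of (hO : OpOf p G = ⊥) : NoUnip G := by
  rintro V hV hn hu
  obtain ⟨n, h⟩ := unip_def.1 hu
  refine eq_bot_iff.2 (hO ▸ le_OpOf hV (fun g hg => map_conj_eq_iff.1 (hn g hg))
    (isPGroup_of_forall_pow fun v hv => ⟨n, pow_eq_one_of_nilp ?_⟩))
  have := h (List.replicate n v) (fun g hg => List.eq_of_mem_replicate hg ▸ hv)
    (List.length_replicate ..)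
  rwa [List.map_replicate, List.prod_replicate] at this

theorem zk2 (h3 : 3 < p) : ringChar (ZMod p) ≠ 2 := by rw [ZMod.ringChar_zmod_n]; omega
theorem zk3 (h3 : 3 < p) : Nat.card (ZMod p) ≠ 3 := by rw [Nat.card_zmod]; omega
theorem zk5 (h3 : 3 < p) : 5 ≤ Nat.card (ZMod p) := by
  rw [Nat.card_zmod]
  have : p ≠ 4 := by rintro rfl; exact absurd hp.out (by norm_num)
  omega

theorem UU_isPGroup (h3 : 3 < p) : IsPGroup p (UU G x) :=
  isPGroup_of_forall_pow fun g hg => ⟨1, by rw [pow_one]; exact UU.pow_eq_one h3.le hg⟩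

theorem comm_un {g : GLM (ZMod p) M} (h : u * u = 0) :
    g ∈ centralizer {un u h} ↔ (g : Module.End (ZMod p) M) * u = u * g := by
  rw [mem_centralizer_singleton_iff, ← Units.val_inj]
  simp [mul_add, add_mul]

theorem mem_norm_UU {g : GLM (ZMod p) M} (hg : g ∈ 𝐍(G))
    (hx : (g : Module.End (ZMod p) M) * x = x * g) : g ∈ 𝐍(UU G x) :=
  mem_normalizer_of_conj_mem fun _ ha => conj_mem_UU
    (fun _ hb => conj_mem_of_mem_normalizer hg hb) one_ne_zero (by rw [one_smul, hx]) ha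

section main
variable (h3 : 3 < p) (hO : OpOf p G = ⊥) (hgen : G ≤ genE {w | Nd G w}) (hcl : OneCl G)
include h3 hO hgen hcl

theorem central_of (hx : Nd G x) (hF : Nd G F) (h : Pair x F) {g : GLM (ZMod p) M} (hg : g ∈ G)
    (hgU : g ∈ 𝐂(UU G x)) (hgF : (g : Module.End (ZMod p) M) * F = F * g) : g ∈ 𝐂(G) :=
  centralizer_le_centralizer hgen (mem_centralizer_genE fun _ hs =>
    comm_all (zk5 h3) (zk2 h3) (zk3 h3) h3.le (noUnip_of hO)
      (hgen.trans (genE_mono fun _ h => h.1)) hcl hx hF h hg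
      (fun v hv => (hgU v hv).symm) hgF hs)

omit hO hgen hcl in
theorem split_cent (hx : Nd G x) (hF : Nd G F) (h : Pair x F) {g : GLM (ZMod p) M} (hg : g ∈ G)
    (hgx : (g : Module.End (ZMod p) M) * x = x * g) :
    ∃ v ∈ UU G x, ((v⁻¹ * g : GLM (ZMod p) M) : Module.End (ZMod p) M) * F = F * (v⁻¹ * g :
      GLM (ZMod p) M) := by
  have p1 := h.conj (a := (g : Module.End (ZMod p) M)) (Units.inv_mul g)
  rw [← cE, cE_eq_iff.2 hgx] at p1
  obtain ⟨v, hv, e⟩ := pair_trans (zk2 h3) (zk3 h3) h3.le hx hF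
    (hF.conj (inG_of_mem hg) (Units.mul_inv g)) h p1
  refine ⟨v, hv, cE_eq_iff.1 ?_⟩
  rw [cE_mul, show cE g F = cE v F from e.symm, ← cE_mul, inv_mul_cancel, cE_one]

theorem cprel_root (hx : Nd G x) : CPrel p G (G ⊓ centralizer {un x hx.1.1}) := by
  intro g hg hc hg'
  obtain ⟨y, hy, o⟩ := exists_op (zk2 h3) (zk3 h3) (noUnip_of hO) hx
  obtain ⟨F, -, hF, pr⟩ := exists_partner (zk2 h3) (zk3 h3) hx hy o
  have h1 : UU G x ≤ OpOf p (G ⊓ centralizer {un x hx.1.1}) :=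
    le_OpOf (fun v hv => ⟨hv.1, (comm_un _).2 (UU.comm hv)⟩)
      (fun a ha => mem_norm_UU (le_normalizer ha.1) ((comm_un _).1 ha.2)) (UU_isPGroup h3)
  have h2 : g ∈ 𝐂(UU G x) := centralizer_le_centralizer h1 hg'
  obtain ⟨v, hv, e⟩ := split_cent h3 hx hF pr hg.1 ((comm_un _).1 hg.2)
  have c : Commute v⁻¹ g := h2 _ (inv_mem hv)
  have e2 : Commute (((v⁻¹ * g) ^ orderOf g : GLM (ZMod p) M) : Module.End (ZMod p) M) F := by
    rw [Units.val_pow_eq_pow_val]; exact Commute.pow_left e _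
  rw [c.mul_pow, pow_orderOf_eq_one, mul_one] at e2
  have e3 := UU.eq_one (pow_mem (inv_mem hv) _) pr e2
  have e4 : v⁻¹ = 1 := orderOf_eq_one_iff.1 (Nat.eq_one_of_dvd_coprimes hc
    (orderOf_dvd_of_pow_eq_one e3) (orderOf_dvd_of_pow_eq_one (UU.pow_eq_one h3.le (inv_mem hv))))
  rw [e4, one_mul] at e
  exact central_of h3 hO hgen hcl hx hF pr hg.1 h2 e

omit hcl in
theorem exists_op_quad (hu : Nz G u) (u0 : u ≠ 0) : ∃ y, Nd G y ∧ Op y u := by
  by_contra hn
  push Not at hn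
  have : un u hu.1 ∈ 𝐂(G) := centralizer_le_centralizer hgen (mem_centralizer_genE fun s hs => by
    simp [mul_add, add_mul, comm_of_forall_not_op (zk2 h3) (zk3 h3) (noUnip_of hO) hu hn hs])
  exact un_ne_one hu.1 u0 (eq_one_of_central hO (InG.mem hu.one_add) this (un_pow _))

theorem cprel_quad (hu : Nz G u) (u0 : u ≠ 0) : CPrel p G (G ⊓ 𝐍(zpowers (un u hu.1))) := by
  obtain ⟨y, hy, o⟩ := exists_op_quad h3 hO hgen hu u0
  obtain ⟨a, ha, na, -⟩ := exists_root_part (zk2 h3) (zk3 h3) hy hu o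
  have hE : IsPGroup p (EG G u) := isPGroup_of_forall_pow fun g hg => by
    obtain ⟨s, hs, rfl⟩ := EG.exists hg
    exact ⟨2, un_pow _⟩
  have h1 := (cprel_root h3 hO hgen hcl na).step inf_le_left hE
    (fun g hg => ⟨EG_le hg, mem_centralizer_singleton_iff.2 (EG_comm g hg _ (un_mem_EG ha))⟩)
    (fun g hg => ⟨hg.1, mem_centralizer_singleton_iff.2 (hg.2 _ (un_mem_EG ha)).symm⟩)
  refine h1.step inf_le_left (isPGroup_zpowers (un_pow _))
    (zpowers_le.2 ⟨InG.mem hu.one_add, le_normalizer (un_mem_EG (self_mem_ES hu))⟩)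
    fun g hg => ⟨hg.1, map_conj_eq_iff.1 ?_⟩
  have := conjBy_EG (x := u) hg.1
  rw [centralizer_zpowers] at hg
  rwa [← cE, cE_eq_iff.2 ((comm_un _).1 hg.2)] at this

/-- no nontrivial central element of `U(x)` commutes with its conjugate under `1 + F` -/
theorem not_comm (hx : Nd G x) (hF : Nd G F) (h : Pair x F) {g : GLM (ZMod p) M} (hg : g ∈ UU G x)
    (hc : g ∈ 𝐂(UU G x)) (hc' : Commute g (un F hF.1.1 * g * (un F hF.1.1)⁻¹)) : g = 1 := by
  have h2 : (2 : ZMod p) ≠ 0 := Ring.two_ne_zero (zk2 h3)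
  set Y := (g : Module.End (ZMod p) M) - 1 with hY
  have eg : (g : Module.End (ZMod p) M) = 1 + Y := by rw [hY]; abel
  have xY : x * Y = 0 := hg.2.xY
  have Yx : Y * x = 0 := hg.2.Yx
  have xY' : ∀ r, x * (Y * r) = 0 := fun r => by rw [← mul_assoc, xY, zero_mul]
  have Yx' : ∀ r, Y * (x * r) = 0 := fun r => by rw [← mul_assoc, Yx, zero_mul]
  have FF := hF.1.sq
  have FF' := hF.1.sq'
  have c : Y * ((1 + F) * Y * (1 - F)) = (1 + F) * Y * (1 - F) * Y := by
    have := congrArg Units.val hc'.eq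
    simp only [Units.val_mul, coe_un, coe_un_inv] at this
    rw [eg, mul_add (1 + F), add_mul (_ * 1), mul_one, hF.1.add_mul_sub] at this
    have c1 : Commute (1 + Y) (1 + (1 + F) * Y * (1 - F)) := this
    have c2 := (c1.sub_left (Commute.one_left _))
    rw [add_sub_cancel_left] at c2
    have c3 := c2.sub_right (Commute.one_right _)
    rwa [add_sub_cancel_left] at c3
  have c1 := congrArg (fun r => F * x * r * F) c
  have c2 := congrArg (fun r => F * r * (x * F)) c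
  simp only [mul_sub, sub_mul, mul_add, add_mul, mul_assoc, mul_one, one_mul, xY', Yx', h.h2',
    h.h2, mul_zero, FF, FF', zero_add, sub_zero, zero_sub, add_zero] at c1 c2
  have e1 : F * (Y * (Y * F)) = 0 := by
    refine smul_right_injective _ h2 ?_
    simp only [two_smul, add_zero]
    nth_rewrite 1 [sub_eq_zero.1 c1.symm]
    rw [← neg_eq_zero, ← c2]; abel
  have e2 : F * (Y * (F * (Y * F))) = 0 := by rw [← sub_eq_zero.1 c1.symm, e1]
  have YY : Y * Y = 0 := by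
    rw [← h.left_of_range (hg.2.sq_range hg.2), ← h.right_of_ker (hg.2.sq_ker hg.2)]
    simp only [mul_assoc]
    rw [← mul_assoc Y F x, ← mul_assoc Y _ x, ← mul_assoc F _ x, e1, zero_mul, mul_zero]
  have nY : Nz G Y := nz_of_mem hg.1 YY
  by_contra hne
  have Y0 : Y ≠ 0 := fun e => hne (Units.ext (by rw [eg, e, add_zero, Units.val_one]))
  obtain ⟨y, hy, o⟩ := exists_op_quad h3 hO hgen nY Y0
  obtain ⟨d, hd, o1, o2⟩ := common_op (zk5 h3) (hgen.trans (genE_mono fun _ h => h.1)) hcl hF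
    (h.symm.op hF.2.1) hy o
  obtain ⟨t, -, F₁, hF₁, -, F0, -, v, hv, rfl⟩ := op_decomp (zk2 h3) (zk3 h3) h3.le hx hF h hd
    (o1.symm (zk2 h3) hd hx.1)
  rw [op_conj_iff (Units.mul_inv v) (Units.inv_mul v), op_congr hF hF₁ F0] at o2
  have cv : ((v⁻¹ : GLM (ZMod p) M) : Module.End (ZMod p) M) * Y * v = Y := by
    have := congrArg Units.val (hc v hv)
    simp only [Units.val_mul] at this
    rw [hY, mul_sub, sub_mul, mul_assoc, ← this, ← mul_assoc, Units.inv_mul, one_mul, mul_one,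
      Units.inv_mul]
  rw [cv] at o2
  have m := xyx_mem (zk2 h3) (zk3 h3) hF nY
  apply o2
  rw [← mul_assoc] at e2 ⊢
  exact mul_eq_zero_of_range_le (hF.range_of_mem_ES m o2 ▸ range_le_ker_of_mul e2)

theorem thmQ_main {r : ℕ} [Fact r.Prime] {R P : Subgroup (GLM (ZMod p) M)} (hR : IsPGroup r R)
    (hc : ¬ r ∣ Nat.card G) (hRG : R ≤ 𝐍(G)) (hPG : P ≤ G) (hP : IsPGroup p P) (hRP : R ≤ 𝐍(P))
    (hCP : G ⊓ 𝐂(R) ≤ 𝐍(P)) (hu : u * u = 0) (huP : un u hu ∈ P) : u = 0 := by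
  by_contra u0
  have nu : Nz G u := by simpa using nz_of_mem (hPG huP) (by simpa using hu)
  have hA := coprimeAct_of_isPGroup_left hR hc hRG
  obtain ⟨Q, hPQ, ⟨hQG, hQ, hRQ, hCQ⟩, hmax⟩ := exists_maximal_subgroup
    (P := fun Q => Q ≤ G ∧ IsPGroup p Q ∧ R ≤ 𝐍(Q) ∧ G ⊓ 𝐂(R) ≤ 𝐍(Q)) ⟨hPG, hP, hRP, hCP⟩
  have hOQ : OpOf p (G ⊓ 𝐍(Q)) = Q := hmax _ ⟨(OpOf_le _).trans inf_le_left, OpOf_isPGroup _,
    le_normalizer_OpOf (le_normalizer_inf hRG (le_normalizer_normalizer hRQ)),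
    le_normalizer_OpOf (le_normalizer_of_le (le_inf inf_le_left hCQ))⟩
    (le_OpOf (le_inf hQG le_normalizer) inf_le_right hQ)
  have cp := (cprel_quad h3 hO hgen hcl nu u0).chain hQ hQG (zpowers_le.2 (hPQ huP))
  obtain ⟨y, hy⟩ := exists_nd nu u0
  obtain ⟨x, F, hx, hF, pr, fx, fF⟩ := exists_fixed_pair (zk2 h3) (zk3 h3) h3.le (noUnip_of hO)
    hcl hy hR hc hRG
  obtain ⟨S, hS, hRS, hUS⟩ := hA.exists_isSyl_ge (UU_isPGroup (x := x) h3) UU_le
    fun ρ hρ => mem_norm_UU (hRG hρ) (cE_eq_iff.1 (fx ρ hρ))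
  have hQS : Q ≤ S := by
    have := hA.isSyl_inf hS hRS hQG hRQ hCQ
    rw [this.eq_of_le hQ inf_le_right le_rfl]
    exact inf_le_left
  have mx := un_mem_UU hx.1.1 (self_mem_ES hx.1)
  obtain ⟨⟨w, hw⟩, w1⟩ := (ne_bot_iff_exists_ne_one).1 (inf_centralizer_ne_bot_of_isNilpotent
    hS.isPGroup.isNilpotent le_rfl le_normalizer fun e =>
      un_ne_one hx.1.1 hx.2.1 (mem_bot.1 (e ▸ hUS mx)))
  replace w1 : w ≠ 1 := fun e => w1 (Subtype.ext e)
  have hwG : w ∈ G := hS.le hw.1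
  have hwC : w ∈ 𝐂(Q) := centralizer_le_centralizer hQS hw.2
  have hwU : w ∈ 𝐂(UU G x) := centralizer_le_centralizer hUS hw.2
  have hwQ : w ∈ Q := by
    have h1 := le_OpOf_of_central (D := G ⊓ 𝐂(Q)) (fun g hg hc => centralizer_le_centralizer
      inf_le_left (cp g ⟨hg.1, le_normalizer_of_le_centralizer le_rfl hg.2⟩ hc (hOQ.symm ▸ hg.2)))
      (isPGroup_zpowers_of_mem hS.isPGroup hw.1) (zpowers_le.2 ⟨hwG, hwC⟩)
    have h2 := OpOf_mono_of_normal (p := p) (K := G ⊓ 𝐂(Q)) (H := G ⊓ 𝐍(Q))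
      (inf_le_inf_left _ (le_normalizer_of_le_centralizer le_rfl))
      (le_normalizer_inf (inf_le_left.trans le_normalizer) (le_normalizer_centralizer inf_le_right))
    rw [hOQ] at h2
    exact h2 (h1 (mem_zpowers w))
  have hwx : (w : Module.End (ZMod p) M) * x = x * w :=
    (comm_un _).1 (mem_centralizer_singleton_iff.2 (hwU _ mx).symm)
  set z := zz hx.1.1 hF.1.1 with hz
  have hzG : z ∈ G := zz_mem hx.1 hF.1
  have zQ : z ∈ 𝐍(Q) := hCQ ⟨hzG, fun ρ hρ => Units.ext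
    (zz_comm _ _ pr (cE_eq_iff.1 (fx ρ hρ)) (cE_eq_iff.1 (fF ρ hρ)))⟩
  have zU : z ∈ 𝐍(UU G x) := mem_norm_UU (le_normalizer hzG)
    (by rw [zz_mul_x _ _ pr, x_mul_zz _ _ pr])
  have FQ : un F hF.1.1 ∈ 𝐍(Q) := hCQ ⟨InG.mem hF.1.one_add, fun ρ hρ =>
    mem_centralizer_singleton_iff.1 ((comm_un _).2 (cE_eq_iff.1 (fF ρ hρ)))⟩
  have fin : ∀ g ∈ Q, g ∈ 𝐂(Q) → g ∈ 𝐂(UU G x) → g ∈ UU G x → g = 1 := fun g h1 h2 h4 h5 =>
    not_comm h3 hO hgen hcl hx hF pr h5 h4 (h2 _ (conj_mem_of_mem_normalizer FQ h1)).symm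
  obtain ⟨v, hv, e⟩ := split_cent h3 hx hF pr hwG hwx
  have hx' : ((v⁻¹ * w : GLM (ZMod p) M) : Module.End (ZMod p) M) * x = x * (v⁻¹ * w :
      GLM (ZMod p) M) := by
    rw [Units.val_mul, mul_assoc, hwx, ← mul_assoc, UU.comm (inv_mem hv), mul_assoc]
  have cz : (v⁻¹ * w) * z = z * (v⁻¹ * w) := Units.ext (zz_comm _ _ pr hx' e)
  have e1 : w⁻¹ * (z * w * z⁻¹) = (v⁻¹ * w)⁻¹ * (v⁻¹ * (z * v * z⁻¹)) * (v⁻¹ * w) := by
    calc _ = w⁻¹ * (z * v * z⁻¹) * (z * (v⁻¹ * w) * z⁻¹) := by group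
      _ = _ := by rw [← cz]; group
  have m1 : v⁻¹ * (z * v * z⁻¹) ∈ UU G x :=
    mul_mem (inv_mem hv) (conj_mem_of_mem_normalizer zU hv)
  have e2 := fin (w⁻¹ * (z * w * z⁻¹)) (mul_mem (inv_mem hwQ) (conj_mem_of_mem_normalizer zQ hwQ))
    (mul_mem (inv_mem hwC) (conj_mem_of_mem_normalizer
      (normalizer_le_normalizer_centralizer _ zQ) hwC))
    (mul_mem (inv_mem hwU) (conj_mem_of_mem_normalizer
      (normalizer_le_normalizer_centralizer _ zU) hwU))
    (e1 ▸ conj_mem_of_mem_normalizer' (mem_norm_UU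
      (le_normalizer (mul_mem (inv_mem hv.1) hwG)) hx') m1)
  rw [e1, mul_assoc, inv_mul_eq_one, eq_comm, mul_eq_right, inv_mul_eq_one,
    eq_mul_inv_iff_mul_eq] at e2
  have vU : v ∈ 𝐂(UU G x) := by
    have h2 : (2 : ZMod p) ≠ 0 := Ring.two_ne_zero (zk2 h3)
    set Y := (v : Module.End (ZMod p) M) - 1 with hY
    have eg : (v : Module.End (ZMod p) M) = 1 + Y := by rw [hY]; abel
    have xY : x * Y = 0 := hv.2.xY
    have Yx : Y * x = 0 := hv.2.Yx
    have xY' : ∀ r, x * (Y * r) = 0 := fun r => by rw [← mul_assoc, xY, zero_mul]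
    have Yx' : ∀ r, Y * (x * r) = 0 := fun r => by rw [← mul_assoc, Yx, zero_mul]
    have c := congrArg Units.val e2
    rw [Units.val_mul, Units.val_mul, hz, coe_zz _ _ pr, eg] at c
    have c1 : Y * (F * x) = x * (F * Y) := by
      refine smul_right_injective _ h2 ?_
      simp only [two_smul]
      simp only [mul_sub, sub_mul, mul_add, add_mul, mul_assoc, mul_one, one_mul, xY, Yx',
        mul_zero] at c
      rw [← sub_eq_zero] at c ⊢
      rw [← neg_eq_zero, ← c]; abel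
    have c2 := hv.2.mid pr
    rw [← hY] at c2
    have c4 : Y = x * (F * (Y * (F * x))) := by
      simp only [mul_sub, sub_mul, mul_assoc, mul_one, one_mul] at c2
      rw [c1, pr.h1'] at c2
      rw [c1, pr.h1', ← sub_eq_zero, ← c2]; abel
    intro a ha
    apply Units.ext
    have ea : (a : Module.End (ZMod p) M) = 1 + ((a : Module.End (ZMod p) M) - 1) := by abel
    have k1 : ((a : Module.End (ZMod p) M) - 1) * Y = 0 := by
      rw [c4, ← mul_assoc, ha.2.Yx, zero_mul]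
    have k2 : Y * ((a : Module.End (ZMod p) M) - 1) = 0 := by
      rw [c4]; simp only [mul_assoc, ha.2.xY, mul_zero]
    have k3 : Commute ((a : Module.End (ZMod p) M) - 1) Y := k1.trans k2.symm
    rw [Units.val_mul, Units.val_mul, eg, ea]
    exact (Commute.one_left _).add_left ((Commute.one_right _).add_right k3)
  have hcen := central_of h3 hO hgen hcl hx hF pr (mul_mem (inv_mem hv.1) hwG)
    (mul_mem (inv_mem vU) hwU) e
  obtain ⟨n, hn⟩ := pow_eq_one_of_isPGroup hS.isPGroup (mul_mem (inv_mem (hUS hv)) hw.1)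
  have := eq_one_of_central hO (mul_mem (inv_mem hv.1) hwG) hcen hn
  rw [inv_mul_eq_one] at this
  exact w1 (fin w hwQ hwC hwU (this ▸ hv))

end main

theorem thmQ (h3 : 3 < p) {r : ℕ} [Fact r.Prime] (G : Subgroup (GLM (ZMod p) M)) :
    ∀ {R P : Subgroup (GLM (ZMod p) M)} {u : Module.End (ZMod p) M}, OpOf p G = ⊥ → IsPGroup r R →
      ¬ r ∣ Nat.card G → R ≤ 𝐍(G) → P ≤ G → IsPGroup p P → R ≤ 𝐍(P) → G ⊓ 𝐂(R) ≤ 𝐍(P) →
      ∀ hu : u * u = 0, un u hu ∈ P → u = 0 := by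
  induction G using subgroup_induction with
  | h G ih =>
  intro R P u hO hR hc hRG hPG hP hRP hCP hu huP
  by_contra u0
  have nu : Nz G u := by simpa using nz_of_mem (hPG huP) (by simpa using hu)
  have hA := coprimeAct_of_isPGroup_left hR hc hRG
  have hG := noUnip_of hO
  have nrm : ∀ ρ ∈ 𝐍(G), ρ ∈ 𝐍(genE {w | Nd G w}) := by
    intro ρ hρ
    refine mem_normalizer_of_conj_mem (map_conj_le_iff.1 (map_le_iff_le_comap.2
      (genE_le (fun s hs => hs.1.1) fun s hs h => ?_)))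
    have n := nd_conj (fun a ha => conj_mem_of_mem_normalizer hρ ha) hs
    convert mem_comap.2 (show (MulAut.conj ρ).toMonoidHom (un s h) ∈ _ from ?_)
    convert un_mem_genE (S := {w | Nd G w}) n n.1.1
    apply Units.ext
    simp [cE, mul_add, add_mul]
  have G0le : genE {w | Nd G w} ≤ G := genE_le_of_nz fun s hs => hs.1
  by_cases h : ∀ y, Nd G y → ¬ Op y u
  · obtain ⟨x, hx⟩ := exists_nd nu u0
    have hD : G ⊓ 𝐂(genE {w | Nd G w}) < G := by
      refine lt_of_le_of_ne inf_le_left fun e => ?_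
      have : un x hx.1.1 ∈ 𝐂(G) :=
        le_centralizer_iff.1 (e.ge.trans inf_le_right) (un_mem_genE hx _)
      exact un_ne_one _ hx.2.1 (eq_one_of_central hO (InG.mem hx.1.one_add) this (un_pow _))
    have nD : 𝐍(G) ≤ 𝐍(G ⊓ 𝐂(genE {w | Nd G w})) :=
      le_normalizer_inf le_rfl (le_normalizer_centralizer nrm)
    refine u0 (ih _ hD (R := R) (P := P ⊓ (G ⊓ 𝐂(genE {w | Nd G w}))) (eq_bot_iff.2
      (hO ▸ OpOf_mono_of_normal inf_le_left (le_normalizer.trans nD))) hR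
      (not_dvd_card_of_le hc inf_le_left) (hRG.trans nD) inf_le_right (hP.to_le inf_le_left)
      (le_normalizer_inf hRP (hRG.trans nD)) (le_normalizer_inf
        ((inf_le_inf_right _ inf_le_left).trans hCP) (inf_le_left.trans le_normalizer)) hu
      ⟨huP, hPG huP, mem_centralizer_genE fun s hs => ?_⟩)
    simp [mul_add, add_mul, comm_of_forall_not_op (zk2 h3) (zk3 h3) hG nu h hs]
  push Not at h
  obtain ⟨y, hy, o⟩ := h
  have KG : genE (Cm G y) ≤ G := genE_le_of_nz fun s hs => (Cm.nd hy hs).1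
  rcases KG.eq_or_lt with e | hlt
  · have all : ∀ t, Nd G t → t ∈ Cm G y := by
      intro t ht
      by_contra hn
      have : un t ht.1.1 ∈ 𝐂(genE (Cm G y)) := mem_centralizer_genE fun s hs => by
        simp [mul_add, add_mul, Cm.comm (zk5 h3) (zk2 h3) (zk3 h3) hG hy hs ht hn]
      rw [e] at this
      exact un_ne_one _ ht.2.1 (eq_one_of_central hO (InG.mem ht.1.one_add) this (un_pow _))
    refine u0 (thmQ_main h3 hO (e.ge.trans (genE_mono fun s hs => Cm.nd hy hs)) ?_ hR hc hRG hPG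
      hP hRP hCP hu huP)
    intro a b ha hb
    obtain ⟨g, hg, m⟩ := Cm.cls (zk2 h3) (zk3 h3) hG ha
      (Cm.trans (Cm.symm (zk2 h3) (all a ha)) (all b hb))
    exact ⟨g, genE_le_of_nz (fun s hs => (Cm.nd ha hs).1) hg, m⟩
  have cjK : ∀ ρ ∈ 𝐍(G), ∀ T : Subgroup (GLM (ZMod p) M),
      (∀ s ∈ Cm G (cE ρ y), ∀ h, un s h ∈ T) → cj(ρ, genE (Cm G y)) ≤ T := by
    intro ρ hρ T hT
    refine map_le_iff_le_comap.2 (genE_le (fun s hs => (Cm.nd hy hs).1.1) fun s hs h => ?_)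
    have hρ' := fun a ha => conj_mem_of_mem_normalizer hρ (x := a) ha
    have := hT _ (Cm.conj_norm hρ' hs) (nd_conj hρ' (Cm.nd hy hs)).1.1
    rw [mem_comap]
    convert this
    apply Units.ext
    simp [cE, mul_add, add_mul]
  have nK : ∀ ρ ∈ 𝐍(G), cE ρ y ∈ Cm G y → ρ ∈ 𝐍(genE (Cm G y)) := fun ρ hρ h =>
    mem_normalizer_of_conj_mem (map_conj_le_iff.1 (cjK ρ hρ _ fun s hs h' =>
      un_mem_genE (Cm.trans h hs) h'))
  have hK : ∀ ρ ∈ R, ρ ∈ 𝐍(genE (Cm G y)) ∨ cj(ρ, genE (Cm G y)) ≤ 𝐂(genE (Cm G y)) := by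
    intro ρ hρ
    by_cases h : cE ρ y ∈ Cm G y
    · exact Or.inl (nK ρ (hRG hρ) h)
    · refine Or.inr (cjK ρ (hRG hρ) _ fun s hs h' => mem_centralizer_genE fun t ht => ?_)
      have ny := nd_conj (fun a ha => conj_mem_of_mem_normalizer (hRG hρ) ha) hy
      simp [mul_add, add_mul, Cm.comm (zk5 h3) (zk2 h3) (zk3 h3) hG hy ht (Cm.nd ny hs)
        fun h2 => h (Cm.trans h2 (Cm.symm (zk2 h3) hs))]
  obtain ⟨P₁, a1, a2, a3, a4, a5⟩ := exists_proj hA KG hK hP hRP hCP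
  obtain ⟨u', hu', b1, b2⟩ := Cm.decomp (zk5 h3) (zk2 h3) (zk3 h3) hG hy nu
  have hO1 : OpOf p (genE (Cm G y)) = ⊥ := by
    refine eq_bot_iff.2 (hO ▸ (OpOf_mono_of_normal (H := genE {w | Nd G w})
      (genE_mono fun s hs => Cm.nd hy hs) (genE_le (fun s hs => hs.1.1) fun s hs h => ?_)).trans
      (OpOf_mono_of_normal G0le (le_normalizer.trans nrm)))
    exact nK _ (le_normalizer (InG.mem hs.1.one_add))
      (Cm.conj (zk5 h3) (zk2 h3) (zk3 h3) hG hy Cm.self hs.1)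
  have := ih _ hlt hO1 (hR.to_le inf_le_left) (not_dvd_card_of_le hc KG) inf_le_right a1 a2 a3 a4
    (ES.nz hu').1 (a5 _ huP _ b1 2 (un_pow _) (mem_centralizer_genE fun s hs => by
      have e : (((un u hu)⁻¹ * un u' (ES.nz hu').1 : GLM (ZMod p) M) : Module.End (ZMod p) M) =
          1 - (u - u') := by
        simp only [Units.val_mul, coe_un, coe_un_inv, mul_add, sub_mul, mul_one, one_mul,
          ES.mul (self_mem_ES nu) hu']
        abel
      rw [e, sub_mul, mul_sub, b2 s hs, one_mul, mul_one]))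
  subst this
  apply o
  rw [← sub_zero u, b2 y Cm.self, hy.1.sq']

end Cfsg.Agent.Lib.Flav
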