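/-
An equivariant analogue of the ZJ-theorem.
-/
import Cfsg.Agent.Lib.Flav.Q5
import Cfsg.Agent.Lib.Flav.KG

set_option autoImplicit false
set_option linter.unusedSectionVars false
set_option linter.style.haveILetI false

namespace Cfsg.Agent.Lib.Flav

open Subgroup Cfsg.Agent.Lib.Core Cfsg.Agent.Lib.Glaub Cfsg.Agent.Lib.Root
open scoped commutatorElement

variable {Γ : Type*} [Group Γ] [Finite Γ] {p r : ℕ} [hp : Fact p.Prime] [hr : Fact r.Prime]

/-- `R` is an `r`-group acting coprimely on `G`. -/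
structure Act (r : ℕ) (G R : Subgroup Γ) : Prop where
  hR : IsPGroup r R
  hc : ¬ r ∣ Nat.card G
  RG : R ≤ 𝐍(G)

/-- `P` is a `p`-subgroup of `G` invariant under `R C_G(R)`. -/
structure Inv (p : ℕ) (G R P : Subgroup Γ) : Prop where
  le : P ≤ G
  hP : IsPGroup p P
  RP : R ≤ 𝐍(P)
  CP : G ⊓ 𝐂(R) ≤ 𝐍(P)

variable {G R P : Subgroup Γ}

theorem Act.cop (h : Act r G R) : CoprimeAct R G := coprimeAct_of_isPGroup_left h.hR h.hc h.RG

theorem Act.mono (h : Act r G R) {H B : Subgroup Γ} (hH : H ≤ G) (hB : B ≤ R) (hn : B ≤ 𝐍(H)) :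
    Act r H B :=
  ⟨h.hR.to_le hB, fun hd => h.hc (hd.trans (card_dvd_of_le hH)), hn⟩

theorem Act.map (h : Act r G R) {Γ' : Type*} [Group Γ'] (f : Γ →* Γ') :
    Act r (G.map f) (R.map f) :=
  ⟨h.hR.map f, fun hd => h.hc (hd.trans (card_map_dvd _ _)), (h.cop.map f).le_norm⟩

theorem Act.map_inf (h : Act r G R) {Γ' : Type*} [Group Γ'] (f : Γ →* Γ') :
    G.map f ⊓ 𝐂(R.map f) ≤ (G ⊓ 𝐂(R)).map f := by
  rintro _ ⟨⟨g, hg, rfl⟩, hc⟩
  have hA : CoprimeAct R (G ⊓ f.ker : Subgroup Γ) := h.cop.mono_right inf_le_left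
    (le_normalizer_inf h.RG le_normalizer_of_normal)
  obtain ⟨c, hc', n, hn, rfl⟩ := hA.exists_centralizer_mul (g := g) fun a ha => by
    refine mem_inf.2 ⟨?_, ?_⟩
    · have := G.mul_mem (conj_mem_of_mem_normalizer' (h.RG ha) (G.inv_mem hg)) hg
      simpa [mul_assoc] using this
    · have := hc _ (mem_map_of_mem f ha)
      rw [MonoidHom.mem_ker]
      simp only [map_mul, map_inv, mul_assoc, this]
      group
  refine ⟨c, mem_inf.2 ⟨?_, hc'⟩, ?_⟩
  · simpa using G.mul_mem hg (G.inv_mem hn.1)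
  · rw [map_mul, (MonoidHom.mem_ker).1 hn.2, mul_one]

theorem Inv.map (hA : Act r G R) (h : Inv p G R P) {Γ' : Type*} [Group Γ'] (f : Γ →* Γ') :
    Inv p (G.map f) (R.map f) (P.map f) :=
  ⟨map_mono h.le, h.hP.map f, (map_mono h.RP).trans (le_normalizer_map f),
    (hA.map_inf f).trans ((map_mono h.CP).trans (le_normalizer_map f))⟩

theorem stab_aux (h3 : 3 < p) [G.Normal] (hA : Act r G R) (hP : Inv p G R P) {V : Type*} [CommGroup V]
    [Finite V] [Module (ZMod p) (Additive V)] (φ : Γ →* MulAut V)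
    (hO : ∀ N : Subgroup Γ, N.Normal → (∀ x ∈ N, (orderOf x).Coprime p → φ x = 1) →
      ∀ x ∈ N, φ x = 1)
    {g : Γ} (hgP : g ∈ P) (hg : ∀ v, φ g (φ g v * v⁻¹) = φ g v * v⁻¹) : φ g = 1 := by
  let ψ : Γ →* Module.End (ZMod p) (Additive V) :=
    { toFun := fun c => (MonoidHom.toAdditive (φ c).toMonoidHom).toZModLinearMap p
      map_one' := by ext v; simp
      map_mul' := fun c d => by ext v; simp }
  have hψ : ∀ c (v : V), ψ c (Additive.ofMul v) = Additive.ofMul (φ c v) := fun _ _ => rfl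
  let θ : Γ →* GLM (ZMod p) (Additive V) := ψ.toHomUnits
  have hθ : ∀ c, θ c = 1 ↔ φ c = 1 := by
    intro c
    constructor
    · intro h
      ext v
      have : ψ c = 1 := congrArg Units.val h
      exact congrArg (fun f : Module.End (ZMod p) (Additive V) => f (Additive.ofMul v)) this
    · intro h
      refine Units.ext (LinearMap.ext fun v => ?_)
      obtain ⟨v, rfl⟩ := Additive.ofMul.surjective v
      change ψ c _ = _
      rw [hψ, h]; rfl
  have h0 : (ψ g - 1) * (ψ g - 1) = 0 := by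
    refine LinearMap.ext fun v => ?_
    obtain ⟨v, rfl⟩ := Additive.ofMul.surjective v
    have : (ψ g - 1) (Additive.ofMul v) = Additive.ofMul (φ g v * v⁻¹) := by
      rw [← div_eq_mul_inv]; rfl
    rw [Module.End.mul_apply, this, LinearMap.sub_apply, hψ, hg]
    simp
  haveI : Finite (GLM (ZMod p) (Additive V)) := finite_glm
  have hO' : OpOf p (G.map θ) = ⊥ := by
    rw [eq_bot_iff]
    intro y hy
    obtain ⟨x, hx, rfl⟩ := OpOf_le _ hy
    refine mem_bot.2 ((hθ x).2 (hO ((OpOf p (G.map θ)).comap θ) ⟨fun b hb a => ?_⟩ ?_ x hy))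
    · rw [mem_comap, map_mul, map_mul, map_inv]
      refine conj_mem_of_mem_normalizer (le_normalizer_OpOf (K := (⊤ : Subgroup Γ).map θ) ?_
        (mem_map_of_mem θ (mem_top a))) hb
      exact (map_mono le_normalizer_of_normal).trans (le_normalizer_map θ)
    · intro z hz hc
      obtain ⟨k, hk⟩ := pow_eq_one_of_isPGroup (OpOf_isPGroup _) hz
      exact (hθ z).1 (Transfer.eq_one_of_coprime_of_pow_eq_one hk
        (Nat.Coprime.coprime_dvd_left (orderOf_map_dvd θ z) hc))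
  have hA' := hA.map θ
  have hP' := hP.map hA θ
  have := thmQ h3 (G.map θ) hO' hA'.hR hA'.hc hA'.RG hP'.le hP'.hP hP'.RP hP'.CP h0
    (eq_un (g := θ g) h0 ▸ mem_map_of_mem θ hgP)
  exact (hθ g).1 (Units.ext (sub_eq_zero.1 this))

open scoped IsMulCommutative in
/-- Elements of `P` acting quadratically on a `p`-chief factor centralize it. -/
theorem stab_chief (h3 : 3 < p) [G.Normal] (hA : Act r G R) (hP : Inv p G R P)
    {U V : Subgroup Γ} (hUV : IsChiefFactor U V) (hU : IsPGroup p U) {g : Γ} (hgP : g ∈ P)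
    (hg : ⁅⁅U, zpowers g⁆, zpowers g⁆ ≤ V) : ⁅U, zpowers g⁆ ≤ V := by
  haveI := hUV.2.2.1
  set π := QuotientGroup.mk' V with hπ
  have hm := chief_minN hUV
  haveI := hm.normal
  haveI := hm.isMulCommutative (hU.map _)
  haveI : (G.map π).Normal := Normal.map inferInstance _ (QuotientGroup.mk'_surjective _)
  let ψ := MulAut.conjNormal (H := U.map π)
  have hψ : ∀ x, ψ x = 1 ↔ x ∈ 𝐂(U.map π) := by
    intro x
    constructor
    · intro h n hn
      have : x * n * x⁻¹ = n := congrArg (fun e : MulAut (U.map π) => (e ⟨n, hn⟩ : Γ ⧸ V)) h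
      exact (mul_inv_eq_iff_eq_mul.mp this).symm
    · intro h
      ext n
      change x * n * x⁻¹ = n
      rw [← h n n.2, mul_inv_cancel_right]
  letI : Module (ZMod p) (Additive (U.map π)) := AddCommGroup.zmodModule fun v =>
    Subtype.ext (hm.pow_eq_one (hU.map _) v.toMul v.toMul.2)
  have h1 : ψ (π g) = 1 := by
    refine stab_aux h3 (hA.map π) (hP.map hA π) ψ ?_ (mem_map_of_mem π hgP) fun v => Subtype.ext ?_
    · intro N hN hc x hx
      exact (hψ x).2 (hm.le_centralizer_of_coprime (hU.map _)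
        (fun y hy h => (hψ y).1 (hc y hy h)) hx)
    · have h2 : ⁅⁅U.map π, zpowers (π g)⁆, zpowers (π g)⁆ = ⊥ := by
        rw [← MonoidHom.map_zpowers, ← map_commutator, ← map_commutator, map_mk'_eq_bot_iff]
        exact hg
      have h3 : ⁅π g, (v : Γ ⧸ V)⁆ ∈ ⁅U.map π, zpowers (π g)⁆ := by
        rw [Subgroup.commutator_comm]
        exact commutator_mem_commutator (mem_zpowers _) v.2
      have h4 := commutator_mem_commutator h3 (mem_zpowers (π g))
      rw [h2, mem_bot, commutatorElement_eq_one_iff_mul_comm] at h4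
      change π g * ⁅π g, (v : Γ ⧸ V)⁆ * (π g)⁻¹ = ⁅π g, (v : Γ ⧸ V)⁆
      rw [← h4, mul_inv_cancel_right]
  exact mem_cFac_iff.mp ((hψ _).1 h1)

/-- `R` centralizes `C_H(O_p(H))` modulo `O_p(H)`. -/
def Ch (p : ℕ) (H R : Subgroup Γ) : Prop := ⁅H ⊓ 𝐂(OpOf p H), R⁆ ≤ OpOf p H

theorem comm_isPGroup {W W₁ : Subgroup Γ} (hA : Act r W R) (h1 : W₁ ≤ W) (hR : R ≤ 𝐍(W₁))
    (hW : W ≤ 𝐍(W₁)) (hc : ∀ x ∈ W, (orderOf x).Coprime p → x ∈ W₁)
    (hp : IsPGroup p (⁅W₁, R⁆ : Subgroup Γ)) : IsPGroup p (⁅W, R⁆ : Subgroup Γ) := by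
  have hA1 := hA.cop.mono_right h1 hR
  have hl : ⁅W₁, R⁆ ≤ W₁ := commutator_le_of_le_normalizer_left hR
  obtain ⟨V, hV, hRV, hle⟩ := hA.cop.exists_isSyl_ge hp (hl.trans h1)
    (le_normalizer_commutator hR le_normalizer)
  refine hV.isPGroup.to_le (Subgroup.commutator_le.2 fun w hw ρ hρ => ?_)
  have e1 := le_sup_of_forall_coprime hV hc (W.inv_mem hw)
  obtain ⟨a, ha, v, hv, hav⟩ := (mem_sup_of_le_normalizer_left (hV.le.trans hW)).1 e1
  rw [← hA1.inf_centralizer_sup_commutator] at ha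
  obtain ⟨c, hc, d, hd, rfl⟩ := (mem_sup_of_le_normalizer_right
    (inf_le_left.trans (normalizer_commutator_ge_left _ _))).1 ha
  have e2 : w = (d * v)⁻¹ * c⁻¹ := by rw [← inv_inv w, ← hav]; group
  have e3 : ρ * c = c * ρ := hc.2 ρ hρ
  have e4 : ⁅w, ρ⁆ = (d * v)⁻¹ * (ρ * (d * v) * ρ⁻¹) := by
    rw [e2, commutatorElement_def]
    calc _ = (d * v)⁻¹ * (c⁻¹ * (ρ * c)) * (d * v) * ρ⁻¹ := by group
      _ = _ := by rw [e3]; group
  have hdv := V.mul_mem (hle hd) hv
  rw [e4]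
  exact V.mul_mem (V.inv_mem hdv) (conj_mem_of_mem_normalizer (hRV hρ) hdv)

theorem zj_normal (h3 : 3 < p) [G.Normal] (hA : Act r G R) (hP : Inv p G R P)
    (hO : OpOf p G ≤ P) (hC : Ch p G R) : (kUpInf P).Normal := by
  by_contra hK
  haveI : (OpOf p G).Normal :=
    normal_of_le_normalizer_top (le_normalizer_OpOf le_normalizer_of_normal)
  obtain ⟨A, hcr⟩ := exists_crit (T := OpOf p G) (OpOf_isPGroup G)
  obtain ⟨g, hg, h1, -, -, h2 | ⟨U, V, a1, a2, a3, a4⟩⟩ :=
    exists_kG hO (OpOf_isPGroup (p := p) G) hcr (Or.inr hK)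
  · set D := normalClosure ({g} : Set Γ)
    have hDG : D ≤ G := normalClosure_le_normal (Set.singleton_subset_iff.2 (hP.le hg))
    have hAD : Act r D R := hA.mono hDG le_rfl le_normalizer_of_normal
    have e1 : IsPGroup p (⁅D, R⁆ : Subgroup Γ) :=
      comm_isPGroup (W₁ := D ⊓ 𝐂(OpOf p G)) hAD inf_le_left le_normalizer_of_normal
        le_normalizer_of_normal (fun x hx hc => ⟨hx, h2 x hx hc⟩)
        ((OpOf_isPGroup G).to_le ((commutator_mono (inf_le_inf_right _ hDG) le_rfl).trans hC))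
    have e2 : OpOf p D ≤ OpOf p G := OpOf_mono_of_normal hDG le_normalizer_of_normal
    have e3 : ⁅D, R⁆ ≤ OpOf p D := le_OpOf (commutator_le_left _ _)
      (normalizer_commutator_ge_left _ _) e1
    have e4 : D ≤ 𝐍(P) := by
      rw [← hAD.cop.inf_centralizer_sup_commutator]
      exact sup_le ((inf_le_inf_right _ hDG).trans hP.CP)
        (((e3.trans e2).trans hO).trans le_normalizer)
    exact h1 (e2 (le_OpOf inf_le_right (le_normalizer_inf e4 le_normalizer) hP.hP.to_inf_left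
      ⟨hg, subset_normalClosure rfl⟩))
  · exact a4 (stab_chief h3 hA hP a1 ((OpOf_isPGroup G).to_le (a2.trans hcr.le)) hg a3)

/-- The equivariant ZJ-theorem. -/
theorem zj (h3 : 3 < p) (hA : Act r G R) (hP : Inv p G R P)
    (hO : OpOf p G ≤ P) (hC : Ch p G R) : G ≤ 𝐍(kUpInf P) := by
  set L := G ⊔ R
  have hf := L.subtype_injective
  obtain ⟨G', hG⟩ : ∃ G' : Subgroup L, G'.map L.subtype = G :=
    ⟨_, map_subgroupOf_eq_of_le le_sup_left⟩
  obtain ⟨R', hR⟩ : ∃ R' : Subgroup L, R'.map L.subtype = R :=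
    ⟨_, map_subgroupOf_eq_of_le le_sup_right⟩
  obtain ⟨P', hP'⟩ : ∃ P' : Subgroup L, P'.map L.subtype = P :=
    ⟨_, map_subgroupOf_eq_of_le (hP.le.trans le_sup_left)⟩
  have hn : L ≤ 𝐍(G) := sup_le le_normalizer hA.RG
  haveI : G'.Normal := normal_of_le_normalizer_top ((map_le_normalizer_iff hf).1 (by
    rw [hG]; exact (map_subtype_le _).trans hn))
  have hle : ∀ {A B : Subgroup L}, A.map L.subtype ≤ B.map L.subtype → A ≤ B :=
    (map_le_map_iff_of_injective hf).1
  have hpg : ∀ {q : ℕ} {A : Subgroup L}, IsPGroup q (A.map L.subtype) → IsPGroup q A :=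
    fun h => h.of_equiv (Subgroup.equivMapOfInjective _ _ hf).symm
  have := zj_normal (G := G') (R := R') (P := P') (r := r) h3
    ⟨hpg (hR ▸ hA.hR), by rw [← card_map_subtype, hG]; exact hA.hc, le_normalizer_of_normal⟩
    ⟨hle (by rw [hG, hP']; exact hP.le), hpg (hP' ▸ hP.hP),
      (map_le_normalizer_iff hf).1 (by rw [hR, hP']; exact hP.RP),
      (map_le_normalizer_iff hf).1 (by rw [map_inf_centralizer hf, hG, hR, hP']; exact hP.CP)⟩
    (hle (by rw [OpOf_map_of_injective _ _ hf, hG, hP']; exact hO))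
    (hle (by
      rw [map_commutator, map_inf_centralizer hf, OpOf_map_of_injective _ _ hf, hG, hR]
      exact hC))
  rw [← hP', ← map_kUpInf hf]
  exact le_sup_left.trans (le_normalizer_map_subtype_of_normal _)

end Cfsg.Agent.Lib.Flav
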