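/-
Noncyclic abelian coprime action: characteristic `p` is detected by the centralizers.
-/
import Cfsg.Agent.Lib.Flav.ZJ
import Cfsg.Agent.Lib.Core.PComp
import Cfsg.Agent.Lib.Core.Generation

set_option autoImplicit false
set_option linter.unusedSectionVars false
set_option linter.style.haveILetI false

namespace Cfsg.Agent.Lib.Flav

open Subgroup Cfsg.Agent.Lib.Core Cfsg.Agent.Lib.Glaub
open scoped commutatorElement

variable {Γ : Type*} [Group Γ] [Finite Γ] {p r : ℕ} [hp : Fact p.Prime] [hr : Fact r.Prime]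
variable {G R T U : Subgroup Γ}

/-- The largest `R C_G(R)`-invariant `p`-subgroup of `G`. -/
def Pint (p : ℕ) (G R : Subgroup Γ) : Subgroup Γ := sSup {T | Inv p G R T}

theorem Inv.le_isSyl (hA : Act r G R) (hT : Inv p G R T) {S : Subgroup Γ} (hS : IsSyl p S G)
    (hRS : R ≤ 𝐍(S)) : T ≤ S :=
  ((hA.cop.isSyl_inf hS hRS hT.le hT.RP hT.CP).eq_of_le hT.hP inf_le_right le_rfl).le.trans
    inf_le_left

theorem Inv.le_Pint (h : Inv p G R T) : T ≤ Pint p G R := le_sSup h

theorem mem_norm_Pint (hA : Act r G R) {g : Γ} (h1 : g ∈ 𝐍(G)) (h2 : g ∈ 𝐍(R)) :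
    g ∈ 𝐍(Pint p G R) := by
  refine mem_normalizer_of_cj_le ?_
  rw [map_le_iff_le_comap]
  refine sSup_le fun T hT => ?_
  rw [← map_le_iff_le_comap]
  have := Inv.map hA hT (MulAut.conj g).toMonoidHom
  rw [map_conj_eq_iff.2 h1, map_conj_eq_iff.2 h2] at this
  exact this.le_Pint

theorem inv_Pint (hA : Act r G R) : Inv p G R (Pint p G R) := by
  obtain ⟨S, hS, hRS⟩ := hA.cop.exists_isSyl p
  exact ⟨sSup_le fun T hT => hT.le,
    hS.isPGroup.to_le (sSup_le fun T hT => Inv.le_isSyl hA hT hS hRS),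
    fun g hg => mem_norm_Pint hA (hA.RG hg) (le_normalizer hg),
    fun g hg => mem_norm_Pint hA (le_normalizer hg.1) (centralizer_le_normalizer _ hg.2)⟩

theorem Inv.sup (hA : Act r G R) (hT : Inv p G R T) (hU : Inv p G R U) : Inv p G R (T ⊔ U) :=
  ⟨sup_le hT.le hU.le, (inv_Pint hA).hP.to_le (sup_le hT.le_Pint hU.le_Pint),
    le_normalizer_sup hT.RP hU.RP, le_normalizer_sup hT.CP hU.CP⟩

theorem Inv.inf (hT : Inv p G R T) {K : Subgroup Γ} (h1 : R ≤ 𝐍(K)) (h2 : G ⊓ 𝐂(R) ≤ 𝐍(K)) :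
    Inv p G R (T ⊓ K) :=
  ⟨inf_le_left.trans hT.le, hT.hP.to_inf_left, le_normalizer_inf hT.RP h1,
    le_normalizer_inf hT.CP h2⟩

theorem inv_OpOf {K : Subgroup Γ} (hK : K ≤ G) (h1 : R ≤ 𝐍(K)) (h2 : G ⊓ 𝐂(R) ≤ 𝐍(K)) :
    Inv p G R (OpOf p K) :=
  ⟨(OpOf_le K).trans hK, OpOf_isPGroup K, le_normalizer_OpOf h1, le_normalizer_OpOf h2⟩

theorem Inv.kUp (hT : Inv p G R T) : Inv p G R (kUpInf T) :=
  ⟨(kUpInf_le T).trans hT.le, hT.hP.to_le (kUpInf_le T),
    fun _ hg => mem_normalizer_kUpInf (hT.RP hg), fun _ hg => mem_normalizer_kUpInf (hT.CP hg)⟩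

theorem mem_centralizer_of_comm {y : Γ} (hT : IsPGroup p T) (hy : (orderOf y).Coprime p)
    (hn : y ∈ 𝐍(T)) (h : ⁅T, zpowers y⁆ ≤ 𝐂(zpowers y)) : y ∈ 𝐂(T) :=
  le_centralizer_iff.1 ((coprimeAct_of_isPGroup_right (not_dvd_card_zpowers hp.out hy) hT
    (zpowers_le.2 hn)).le_centralizer h) (mem_zpowers y)

theorem Ch.normal (hA : Act r G R) (h : Ch p G R) {N : Subgroup Γ} (hN : N ≤ G) (hG : G ≤ 𝐍(N))
    (hR : R ≤ 𝐍(N)) : Ch p N R := by
  set W := N ⊓ 𝐂(OpOf p N)
  have hRW : R ≤ 𝐍(W) := le_normalizer_inf hR (le_normalizer_centralizer (le_normalizer_OpOf hR))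
  have hNW : N ≤ 𝐍(W) := le_normalizer_inf le_normalizer
    (le_normalizer_centralizer (le_normalizer_OpOf le_normalizer))
  have hWO : W ≤ 𝐍(OpOf p G) := le_normalizer_OpOf ((inf_le_left.trans hN).trans le_normalizer)
  have e1 : IsPGroup p (⁅W, R⁆ : Subgroup Γ) := by
    refine comm_isPGroup (W₁ := W ⊓ 𝐂(OpOf p G)) (hA.mono (inf_le_left.trans hN) le_rfl hRW)
      inf_le_left (le_normalizer_inf hRW (le_normalizer_centralizer (le_normalizer_OpOf hA.RG)))
      (le_normalizer_inf le_normalizer (le_normalizer_centralizer hWO)) (fun x hx hc => ⟨hx, ?_⟩)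
      ((OpOf_isPGroup G).to_le ((commutator_mono
        (inf_le_inf_right _ (inf_le_left.trans hN)) le_rfl).trans h))
    refine mem_centralizer_of_comm (OpOf_isPGroup G) hc (hWO hx) ?_
    refine le_trans (le_inf (commutator_le_of_le_normalizer_left (zpowers_le.2 (hWO hx))) ?_)
      ((inf_OpOf_le hN).trans (le_centralizer_iff.1 (zpowers_le.2 hx.2)))
    exact (commutator_mono le_rfl (zpowers_le.2 hx.1)).trans
      (commutator_le_of_le_normalizer_right ((OpOf_le G).trans hG))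
  exact (le_OpOf (commutator_le_of_le_normalizer_left hRW) (normalizer_commutator_ge_left _ _)
    e1).trans (OpOf_mono_of_normal inf_le_left hNW)

theorem push_main (hA : Act r G R) (hab : IsMulCommutative R) (hnc : ¬ IsCyclic R)
    (hloc : ∀ b ∈ R, b ≠ 1 → Ch p (G ⊓ centralizer {b}) R) {A : Subgroup Γ} (hAR : A ≤ R)
    (hCA : Ch p (G ⊓ 𝐂(A)) R) (hU : Inv p G R U) (hAU : G ⊓ 𝐂(A) ≤ 𝐍(U))
    (hc : Pint p G A ⊓ 𝐂(U) ≤ U) : ⁅G ⊓ 𝐂(U), R⁆ ≤ U := by
  set Y := G ⊓ 𝐂(U) with hY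
  have hRR : R ≤ 𝐂(R) := le_centralizer R
  have hRA : R ≤ 𝐂(A) := hRR.trans (centralizer_le_centralizer hAR)
  have hCC : G ⊓ 𝐂(R) ≤ G ⊓ 𝐂(A) := inf_le_inf_left _ (centralizer_le_centralizer hAR)
  have hNY : G ⊓ 𝐍(U) ≤ 𝐍(Y) := le_normalizer_inf (inf_le_left.trans le_normalizer)
    (le_normalizer_centralizer inf_le_right)
  have hRY : R ≤ 𝐍(Y) := le_normalizer_inf hA.RG (le_normalizer_centralizer hU.RP)
  have hAY : G ⊓ 𝐂(A) ≤ 𝐍(Y) := (le_inf inf_le_left hAU).trans hNY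
  have hCY : G ⊓ 𝐂(R) ≤ 𝐍(Y) := hCC.trans hAY
  have hUY : U ≤ 𝐂(Y) := le_centralizer_iff.1 inf_le_right
  have aY : Act r Y R := hA.mono inf_le_left le_rfl hRY
  have aY' : Act r Y A := hA.mono inf_le_left hAR (hAR.trans hRY)
  have ha : Pint p Y A ≤ U := by
    have i1 := inv_Pint (p := p) aY'
    have i2 : Inv p G A (Pint p Y A) := ⟨i1.le.trans inf_le_left, i1.hP, i1.RP, fun g hg =>
      mem_norm_Pint aY' (hAY hg) (centralizer_le_normalizer _ hg.2)⟩
    exact (le_inf i2.le_Pint (i1.le.trans inf_le_right)).trans hc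
  have hRC : R ≤ 𝐍(𝐂(A)) := hRA.trans le_normalizer
  have hb : ⁅Y ⊓ 𝐂(A), R⁆ ≤ U := by
    have h1 : Ch p (Y ⊓ 𝐂(A)) R := Ch.normal
      (hA.mono inf_le_left le_rfl (le_normalizer_inf hA.RG hRC)) hCA
      (inf_le_inf_right _ inf_le_left) (le_normalizer_inf hAY (inf_le_right.trans le_normalizer))
      (le_normalizer_inf hRY hRC)
    have h2 : OpOf p (Y ⊓ 𝐂(A)) ≤ U := (inv_OpOf inf_le_left
      (hAR.trans (le_normalizer_inf hRY hRC)) le_normalizer).le_Pint.trans ha
    refine le_trans (commutator_mono (le_inf le_rfl ?_) le_rfl) (h1.trans h2)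
    exact (inf_le_left.trans inf_le_right).trans (centralizer_le_centralizer h2)
  have hd : ∀ T, Inv p G R T → T ≤ Y → T ≤ U := by
    intro T hT hTY
    refine (Inv.le_Pint ⟨hTY, hT.hP, hAR.trans hT.RP, ?_⟩).trans ha
    rw [← (aY.mono (H := Y ⊓ 𝐂(A)) inf_le_left le_rfl
      (le_normalizer_inf hRY hRC)).cop.inf_centralizer_sup_commutator]
    exact sup_le ((inf_le_inf_right _ (inf_le_left.trans inf_le_left)).trans hT.CP)
      (hb.trans (hUY.trans ((centralizer_le_centralizer hTY).trans (centralizer_le_normalizer _))))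
  have hg : Y ≤ (Y ⊓ 𝐂(R)) ⊔ (U ⊓ Y) := by
    refine le_of_centralizers hab hnc hRY aY.cop.coprime fun b hbR hb1 => ?_
    have hX := hloc b hbR hb1
    rw [← centralizer_zpowers] at hX ⊢
    set B := zpowers b
    have hBR : B ≤ R := zpowers_le.2 hbR
    have hRB : R ≤ 𝐍(𝐂(B)) := (hRR.trans (centralizer_le_centralizer hBR)).trans le_normalizer
    have hCB : G ⊓ 𝐂(R) ≤ G ⊓ 𝐂(B) := inf_le_inf_left _ (centralizer_le_centralizer hBR)
    set X := G ⊓ 𝐂(B)
    set W := Y ⊓ 𝐂(B)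
    have hWX : W ≤ X := inf_le_inf_right _ inf_le_left
    have hRW : R ≤ 𝐍(W) := le_normalizer_inf hRY hRB
    have hCW : G ⊓ 𝐂(R) ≤ 𝐍(W) :=
      le_normalizer_inf hCY ((hCB.trans inf_le_right).trans le_normalizer)
    have iO : Inv p G R (OpOf p X) :=
      inv_OpOf inf_le_left (le_normalizer_inf hA.RG hRB) (hCB.trans le_normalizer)
    have iS := Inv.sup hA hU iO
    have iT := iS.inf (le_normalizer_normalizer hU.RP) (hU.CP.trans le_normalizer)
    have hWU : W ≤ 𝐍(U) := (inf_le_left.trans inf_le_right).trans (centralizer_le_normalizer _)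
    have hWO : W ≤ 𝐍(OpOf p X) := le_normalizer_OpOf (hWX.trans le_normalizer)
    have hWS : W ≤ 𝐍(U ⊔ OpOf p X) := le_normalizer_sup hWU hWO
    have hWT : W ≤ 𝐍((U ⊔ OpOf p X) ⊓ 𝐍(U)) := le_normalizer_inf hWS (hWU.trans le_normalizer)
    have he : ∀ y ∈ W, (orderOf y).Coprime p → y ∈ W ⊓ 𝐂(OpOf p X) := by
      intro y hy hc
      have hUy : U ≤ 𝐂(zpowers y) := le_centralizer_iff.1 (zpowers_le.2 hy.1.2)
      have h1 : y ∈ 𝐂((U ⊔ OpOf p X) ⊓ 𝐍(U)) := by
        refine mem_centralizer_of_comm iT.hP hc (hWT hy) (le_trans (le_trans (le_inf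
          (commutator_le_of_le_normalizer_left (zpowers_le.2 (hWT hy))) ?_)
          (hd _ (iT.inf hRY hCY) inf_le_right)) hUy)
        exact (commutator_mono le_rfl (zpowers_le.2 hy.1)).trans
          (commutator_le_of_le_normalizer_right ((inf_le_inf_right _ iS.le).trans hNY))
      have h2 := thompson_A_times_B iS.hP hU.hP (not_dvd_card_zpowers hp.out hc)
        (le_sup_left.trans le_normalizer) (zpowers_le.2 (hWS hy)) hUy
        ((inf_le_inf_left _ (centralizer_le_normalizer _)).trans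
          (le_centralizer_iff.1 (zpowers_le.2 h1)))
      exact ⟨hy, le_centralizer_iff.1 (le_sup_right.trans h2) (mem_zpowers y)⟩
    have aW : Act r W R := aY.mono inf_le_left le_rfl hRW
    have hf : IsPGroup p (⁅W, R⁆ : Subgroup Γ) :=
      comm_isPGroup aW inf_le_left (le_normalizer_inf hRW (le_normalizer_centralizer iO.RP))
        (le_normalizer_inf le_normalizer (le_normalizer_centralizer hWO)) he
        (iO.hP.to_le ((commutator_mono (inf_le_inf_right _ hWX) le_rfl).trans hX))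
    have hl : ⁅W, R⁆ ≤ Y := (commutator_le_of_le_normalizer_left hRW).trans inf_le_left
    have := hd ⁅W, R⁆ ⟨hl.trans inf_le_left, hf, normalizer_commutator_ge_right _ _,
      le_normalizer_commutator hCW (inf_le_right.trans (centralizer_le_normalizer _))⟩ hl
    rw [← aW.cop.inf_centralizer_sup_commutator]
    exact sup_le_sup (inf_le_inf_right _ inf_le_left) (le_inf this hl)
  refine (commutator_mono hg le_rfl).trans (commutator_sup_left_le ?_ ?_ ?_)
  · rw [commutator_eq_bot_iff_le_centralizer.2 inf_le_right]; exact bot_le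
  · exact (commutator_mono inf_le_left le_rfl).trans (commutator_le_of_le_normalizer_left hU.RP)
  · exact ((sup_le inf_le_left inf_le_right).trans inf_le_right).trans
      (centralizer_le_normalizer _)

theorem ch_of_push (hU : Inv p G R U) (h : ⁅G ⊓ 𝐂(U), R⁆ ≤ U) : Ch p (G ⊓ 𝐍(U)) R := by
  have h1 : U ≤ OpOf p (G ⊓ 𝐍(U)) := le_OpOf (le_inf hU.le le_normalizer) inf_le_right hU.hP
  exact ((commutator_mono (inf_le_inf inf_le_left (centralizer_le_centralizer h1)) le_rfl).trans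
    h).trans h1

theorem ch_of_local (h3 : 3 < p) (hA : Act r G R) (hab : IsMulCommutative R) (hnc : ¬ IsCyclic R)
    (hloc : ∀ b ∈ R, b ≠ 1 → Ch p (G ⊓ centralizer {b}) R) : Ch p G R := by
  have hRR : R ≤ 𝐂(R) := le_centralizer R
  have iP := inv_Pint (p := p) hA
  set P := Pint p G R
  have i0 : ∀ A ≤ R, Inv p G R (Pint p G A) := by
    intro A hAR
    have aA : Act r G A := hA.mono le_rfl hAR (hAR.trans hA.RG)
    have i1 := inv_Pint (p := p) aA
    exact ⟨i1.le, i1.hP, fun g hg => mem_norm_Pint aA (hA.RG hg)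
      (centralizer_le_normalizer _ (centralizer_le_centralizer hAR (hRR hg))),
      (inf_le_inf_left _ (centralizer_le_centralizer hAR)).trans i1.CP⟩
  have key : ∀ A ≤ R, Ch p (G ⊓ 𝐂(A)) R → G ⊓ 𝐂(A) ≤ 𝐍(kUpInf P) := by
    intro A hAR hCA
    have aA : Act r G A := hA.mono le_rfl hAR (hAR.trans hA.RG)
    obtain ⟨M, -, ⟨m1, m2, m3⟩, hmax⟩ := exists_maximal_subgroup
      (P := fun Q => Inv p G R Q ∧ Pint p G A ≤ Q ∧ G ⊓ 𝐂(A) ≤ 𝐍(kUpInf Q)) (H := Pint p G A)
      ⟨i0 A hAR, le_rfl, fun g hg => mem_normalizer_kUpInf ((inv_Pint aA).CP hg)⟩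
    have iU := m1.kUp
    have h1 := ch_of_push iU (push_main hA hab hnc hloc hAR hCA iU m3
      ((inf_le_inf_right _ m2).trans (centralizer_kUpInf_le m1.hP)))
    set H := G ⊓ 𝐍(kUpInf M)
    have hRH : R ≤ 𝐍(H) := le_normalizer_inf hA.RG (le_normalizer_normalizer iU.RP)
    have hCH : G ⊓ 𝐂(R) ≤ H := le_inf inf_le_left iU.CP
    have iQ := iP.inf hRH (hCH.trans le_normalizer)
    have h2 : H ≤ 𝐍(kUpInf (P ⊓ H)) := zj h3 (hA.mono inf_le_left le_rfl hRH)
      ⟨inf_le_right, iQ.hP, iQ.RP, (inf_le_inf_right _ inf_le_left).trans iQ.CP⟩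
      (le_inf (inv_OpOf inf_le_left hRH (hCH.trans le_normalizer)).le_Pint (OpOf_le H)) h1
    have h3' : P ⊓ 𝐍(M) ≤ P ⊓ H := le_inf inf_le_left (le_inf (inf_le_left.trans iP.le)
      fun g hg => mem_normalizer_kUpInf hg.2)
    have hM : M ≤ P ⊓ H := (le_inf m1.le_Pint le_normalizer).trans h3'
    have h4 := hmax _ ⟨iQ, m2.trans hM, (le_inf inf_le_left m3).trans h2⟩ hM
    have h5 : M = P := by
      by_contra hne
      exact (lt_inf_normalizer_of_isPGroup iP.hP (lt_of_le_of_ne m1.le_Pint hne)).not_ge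
        (h3'.trans h4.le)
    exact h5 ▸ m3
  have hG : G ≤ 𝐍(kUpInf P) := le_of_centralizers hab hnc hA.RG hA.cop.coprime fun a ha ha1 => by
    have := hloc a ha ha1
    rw [← centralizer_zpowers] at this ⊢
    exact key _ (zpowers_le.2 ha) this
  obtain ⟨a, ha, ha1⟩ : ∃ a ∈ R, a ≠ 1 := by
    by_contra h
    push Not at h
    have : R = ⊥ := eq_bot_iff.2 fun a ha => mem_bot.2 (h a ha)
    exact hnc (this ▸ inferInstance)
  have hCa := hloc a ha ha1
  rw [← centralizer_zpowers] at hCa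
  have := ch_of_push iP.kUp (push_main hA hab hnc hloc (zpowers_le.2 ha) hCa iP.kUp
    (inf_le_left.trans hG) ((inf_le_inf_right _ (i0 _ (zpowers_le.2 ha)).le_Pint).trans
      (centralizer_kUpInf_le iP.hP)))
  rwa [inf_eq_left.2 hG] at this

theorem FstarOf_le_sup (H : Subgroup Γ) :
    FstarOf H ≤ OpOf p H ⊔ (EOf H ⊔ OppOf p (fittingOf H)) := by
  rw [FstarOf_eq]
  refine sup_le (le_sup_of_le_right le_sup_left) ?_
  conv_lhs => rw [← OpOf_sup_OppOf (p := p) (fittingOf_isNilpotent H), OpOf_fittingOf]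
  exact sup_le_sup_left le_sup_right _

theorem ch_iff (hA : Act r G R) :
    Ch p G R ↔ ∀ x ∈ FstarOf G, (orderOf x).Coprime p → x ∈ 𝐂(R) := by
  set Y := EOf G ⊔ OppOf p (fittingOf G)
  have hn : ∀ K ≤ 𝐍(G), K ≤ 𝐍(Y) := fun K hK => le_normalizer_sup (le_normalizer_EOf hK)
    (le_normalizer_OppOf (le_normalizer_fittingOf hK))
  have hE : EOf G ≤ G ⊓ 𝐂(OpOf p G) :=
    le_inf (EOf_le G) (le_centralizer_iff.1 (OpOf_le_centralizer_EOf G))
  have hF : OppOf p (fittingOf G) ≤ G ⊓ 𝐂(OpOf p G) := by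
    refine le_inf ((OppOf_le _).trans (fittingOf_le G)) (le_centralizer_iff.1 ?_)
    rw [← OpOf_fittingOf]; exact OpOf_le_centralizer_OppOf _
  have hRO : R ≤ 𝐍(OpOf p G) := le_normalizer_OpOf hA.RG
  constructor
  · intro h x hx hc
    have h1 : EOf G ≤ 𝐂(R) := by
      rw [le_centralizer_iff, ← commutator_eq_bot_iff_le_centralizer]
      refine commutator_eq_bot_of_perfect (commutator_EOf G) ?_
      rw [commutator_eq_bot_iff_le_centralizer, commutator_comm]
      exact ((commutator_mono hE le_rfl).trans h).trans (OpOf_le_centralizer_EOf G)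
    have h2 : OppOf p (fittingOf G) ≤ 𝐂(R) := by
      rw [← commutator_eq_bot_iff_le_centralizer, eq_bot_iff,
        ← inf_eq_bot_of_isPGroup_of_not_dvd (OpOf_isPGroup (p := p) G)
          (OppOf_not_dvd (fittingOf G))]
      exact le_inf ((commutator_mono hF le_rfl).trans h) (commutator_le_of_le_normalizer_left
        (le_normalizer_OppOf (le_normalizer_fittingOf hA.RG)))
    exact sup_le h1 h2 (mem_of_coprime_of_le_sup (OpOf_isPGroup G)
      (hn _ ((OpOf_le G).trans le_normalizer)) (FstarOf_le_sup G) hx hc)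
  · intro h
    have h1 : Y ≤ 𝐂(R) := sup_le
      (le_of_perfect_of_forall_coprime (commutator_EOf G) fun x hx => h x (EOf_le_FstarOf G hx))
      fun x hx => h x (fittingOf_le_FstarOf G (OppOf_le _ hx))
        (Glaub.coprime_orderOf_of_mem (OppOf_not_dvd _) hx)
    set W := G ⊓ 𝐂(OpOf p G)
    have hRW : R ≤ 𝐍(W) := le_normalizer_inf hA.RG (le_normalizer_centralizer hRO)
    have hl : ⁅W, R⁆ ≤ W := commutator_le_of_le_normalizer_left hRW
    have h2 : ⁅W, R⁆ ≤ 𝐂(Y) := (commutator_mono le_rfl (le_centralizer_iff.1 h1)).trans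
      (commutator_le_of_le_normalizer_right
        (le_normalizer_centralizer (hn _ (inf_le_left.trans le_normalizer))))
    have h3 : ⁅W, R⁆ ≤ OpOf p G ⊔ Y := by
      refine le_trans (le_trans ?_ (inf_centralizer_FstarOf_le G))
        ((fittingOf_le_FstarOf G).trans (FstarOf_le_sup G))
      exact le_inf (hl.trans inf_le_left) ((le_centralizer_sup (hl.trans inf_le_right) h2).trans
        (centralizer_le_centralizer (FstarOf_le_sup G)))
    rw [Ch, ← (hA.mono inf_le_left le_rfl hRW).cop.commutator_commutator]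
    refine (commutator_mono h3 le_rfl).trans (commutator_sup_left_le
      (commutator_le_of_le_normalizer_left hRO) ?_ (le_normalizer_OpOf (le_normalizer_of_le
        (sup_le (OpOf_le G) ((sup_le hE hF).trans inf_le_left)))))
    rw [commutator_eq_bot_iff_le_centralizer.2 h1]; exact bot_le

end Cfsg.Agent.Lib.Flav
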